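import Cfsg.Agent.H424.Six.Oodd
import Cfsg.Agent.H424.Cube
import Cfsg.Agent.H149.PGO

/-!
# Elimination of sections `Ω_{2n+1}(u)`, `n ≥ 3`, `q = 5 ^ m` (helper424)

`oodd` : `E5 q (POmega F (quadFormOdd n F))` is impossible for `|F|` odd, `5 ∤ |F|`, `n ≥ 3`.
-/

set_option autoImplicit false
set_option linter.unusedSectionVars false

namespace Cfsg.Agent.H424.Six

open QuadraticMap Cfsg Matrix
open Cfsg.Agent.LieClassical.OrthCore Cfsg.Agent.LieClassical.OrthForms
open Cfsg.Agent.H377 Cfsg.Agent.H376.Six Cfsg.Agent.H403 Cfsg.Agent.H424.P4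

theorem bc_oodd {F : Type*} [Field F] [Fintype F] (ho : Odd (Fintype.card F)) {n : ℕ} (hn : 3 ≤ n) (p : ℕ)
    [hp : Fact p.Prime] [hFp : CharP F p] : BC (Fintype.card F) p n (POmega F (quadFormOdd n F)) := by
  classical
  have ho' : Odd (Nat.card F) := by rwa [Nat.card_eq_fintype_card]
  have h2 : (2 : F) ≠ 0 := Cfsg.Agent.H377.OOdd.two_ne_zero_of_odd ho'
  obtain ⟨f, -, hf⟩ := FiniteField.card F p
  have hpo : Odd p := by
    rcases hp.out.eq_two_or_odd' with h | h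
    · exfalso
      subst h
      rw [hf] at ho
      exact (Nat.not_even_iff_odd.2 ho) (Nat.even_pow.2 ⟨even_two, f.ne_zero⟩)
    · exact h
  have hcf : 2 * Nat.card (POmega F (quadFormOdd n F)) = Fintype.card F ^ (n ^ 2) *
      ∏ i ∈ Finset.range n, (Fintype.card F ^ (2 * (i + 1)) - 1) :=
    Cfsg.Agent.S0292.result (F := F) rfl ho n hn
  have hu : 2 ≤ Fintype.card F := Fintype.one_lt_card
  have hfin : Finite (POmega F (quadFormOdd n F)) := by
    apply Nat.finite_of_card_ne_zero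
    intro h0
    rw [h0, mul_zero] at hcf
    have h3 : 0 < Fintype.card F ^ (n ^ 2) * ∏ i ∈ Finset.range n, (Fintype.card F ^ (2 * (i + 1)) - 1) := by
      apply Nat.mul_pos (Nat.pow_pos (by omega))
      apply Finset.prod_pos
      intro i _
      have := Nat.one_lt_pow (n := 2 * (i + 1)) (by omega) (show 1 < Fintype.card F by omega)
      omega
    omega
  have hidx : Fintype.card (Unit ⊕ (Fin n ⊕ Fin n)) = 2 * n + 1 := by
    rw [Fintype.card_sum, Fintype.card_sum, Fintype.card_fin, Fintype.card_unit]; ring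
  have hfrob : ∀ r : ℕ, r.Prime → r ≠ 2 → ¬ r ∣ Fintype.card F → ∀ i, 1 ≤ i → i < n →
      r ∣ Fintype.card F ^ (2 * i) - 1 → ∃ U : Subgroup (POmega F (quadFormOdd n F)), IsPGroup p U ∧
        ∃ y : POmega F (quadFormOdd n F), orderOf y = r ∧ (∀ x ∈ U, y * x * y⁻¹ ∈ U) ∧ ∃ x ∈ U, y * x ≠ x * y := by
    intro r hr hr2 hru i hi1 hi2 hd
    have hrp : r ≠ p := by
      rintro rfl
      apply hru
      rw [hf]
      exact dvd_pow_self _ f.ne_zero
    rw [← Nat.card_eq_fintype_card] at hd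
    have hex : ∃ ε : ℤ, Cfsg.Agent.H377.Elt F i ε r := by
      rcases Cfsg.Agent.H377.OOdd.elt_of_dvd hi1 hr hd with h | h
      · exact ⟨_, h⟩
      · exact ⟨_, h⟩
    obtain ⟨ε, hE⟩ := hex
    obtain ⟨g, e, hg, he, hQe, hge⟩ := exists_isom_fix h2 hi2 hr hE
    have h := Orth.orth_frob (oddForm n F) (nondeg_oddForm n F h2) (by rw [hidx]; omega) h2 p hr hr2 hrp g hg he hQe hge
    rwa [coe_oddForm] at h
  refine ⟨hp.out, ⟨f, f.pos, hf⟩, hn, hfin, ?_, ?_, ?_, hfrob, ?_⟩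
  · intro g hg
    obtain ⟨N, hN⟩ : ∃ N, N = orderOf g := ⟨_, rfl⟩
    rw [← hN] at hg ⊢
    have hex : ∃ g' : POmega F (quadFormOdd n F), orderOf g' = N := ⟨g, hN.symm⟩
    rw [← Cfsg.Agent.LieClassical.OmegaReindex.coe_quadOdd] at hex
    have D := Cfsg.Agent.H424.Cube.data_odd h2 (m := n) (by omega)
    obtain ⟨X, hX⟩ := Cfsg.Agent.H390.Lift.exists_isom D hg hex
    have hXm := (Cfsg.Agent.LieClassical.OrthFinite.mem_isometryGroup_iff
      (Q := Cfsg.Agent.LieClassical.OmegaReindex.quadOdd n F) (g := X.1)).1 X.2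
    have hchar := Cfsg.Agent.H149.PGO.charpoly_isometry (Cfsg.Agent.LieClassical.OmegaReindex.quadOdd n F)
      (fun x hx => D.nd.1 x fun y => hx y) X.1.1 hXm
    have hXN : X.1.1 ^ N = 1 := by
      have h3 : X ^ N = 1 := by rw [← hX, pow_orderOf_eq_one]
      exact congrArg (fun x : isometryGroup F ⇑(Cfsg.Agent.LieClassical.OmegaReindex.quadOdd n F) => x.1.1) h3
    obtain ⟨L, b, n', hL, hML, hc⟩ := exists_TL_odd (F := F) (n := n) X.1.1 X.1.isUnit hchar.symm p
      (by rw [hidx]) hXN hg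
    refine ⟨L, b, n', hL, ?_, hc⟩
    rw [← hX]
    apply orderOf_dvd_of_pow_eq_one
    exact Subtype.ext (Units.ext hML)
  · intro k h1 h3 ε hε
    rw [← Nat.card_eq_fintype_card]
    exact odd_T2 ho' hn h1 h3 hε
  · intro k h1 h3 ε hε
    rw [← Nat.card_eq_fintype_card]
    have hA := elt_ts (F := F) h1 hε dvd_rfl
    have hB := elt_ts (F := F) (k := 1) le_rfl (Or.inl rfl : (1 : ℤ) = 1 ∨ (1 : ℤ) = -1) dvd_rfl
    have hC := (hA.prod hB).prod (elt_one (F := F) (n - k - 1))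
    rw [Nat.lcm_one_right, show k + 1 + (n - k - 1) = n by omega] at hC
    have hts1 : ts (Nat.card F) 1 1 = Nat.card F - 1 := by rw [ts_one, pow_one]
    rw [hts1] at hC
    obtain ⟨N, hN⟩ : ∃ N, Nat.lcm (ts (Nat.card F) k ε) (Nat.card F - 1) = 2 * N := by
      have h4 : 2 ∣ Nat.card F - 1 := by
        obtain ⟨c, hc⟩ := ho'
        exact ⟨c, by omega⟩
      exact h4.trans (Nat.dvd_lcm_right _ _)
    rw [hN] at hC ⊢
    obtain ⟨g, hg⟩ := Cfsg.Agent.H377.OOdd.exists_even_tor ho' hn hC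
    exact ⟨g, by rw [hg]⟩
  · intro h
    have hs : IsSimpleGroup (POmega F (quadFormOdd n F)) := Cfsg.Agent.S0295.result ho n hn
    have hna : ¬ IsMulCommutative (POmega F (quadFormOdd n F)) := by
      intro hcomm
      set u := Fintype.card F with hudef
      have hu2 : u ^ 2 % 4 = 1 := by
        have : u % 4 = 1 ∨ u % 4 = 3 := by
          obtain ⟨c, hc⟩ := ho
          omega
        rcases this with h | h <;> rw [Nat.pow_mod, h]
      have hu4 : 4 ≤ u ^ 2 := by nlinarith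
      obtain ⟨r, hr, hrd⟩ := Nat.exists_prime_and_dvd (show (u ^ 2 + 1) / 2 ≠ 1 by omega)
      have hrd' : r ∣ u ^ 2 + 1 := hrd.trans (Nat.div_dvd_of_dvd (by omega))
      have hr2 : r ≠ 2 := by
        rintro rfl
        omega
      have hru : ¬ r ∣ u := by
        intro h
        have h3 : r ∣ u ^ 2 := h.trans (dvd_pow_self u (by norm_num))
        exact hr.one_lt.ne' (Nat.dvd_one.1 ((Nat.dvd_add_right h3).1 hrd'))
      obtain ⟨U, -, y, -, -, x, -, hne⟩ := hfrob r hr hr2 hru 2 (by norm_num) (by omega)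
        (hrd'.trans (pow_sub_dvd_two u 2).2)
      exact hne (hcomm.is_comm.comm y x)
    have h1 := Cfsg.Agent.S0816.result (F := F) p f f.pos hf hpo n hn
    rw [Cfsg.Agent.H934.OutB.card_out_of_aut hna h1] at h
    obtain ⟨v, hv⟩ : ∃ v, Fintype.card F = v ^ 5 := by
      have h5 : 5 ∣ (f : ℕ) := by
        rcases Nat.prime_five.dvd_mul.1 h with h3 | h3
        · omega
        · exact h3
      obtain ⟨k, hk⟩ := h5
      exact ⟨p ^ k, by rw [hf, hk, ← pow_mul, mul_comm]⟩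
    exact ⟨v, hv⟩

/-- **`Ω_{2n+1}(u)`, `n ≥ 3`, `u` odd.** -/
theorem oodd {q n : ℕ} {F : Type*} [Field F] [Fintype F] (h5 : ¬ 5 ∣ Fintype.card F) (ho : Odd (Fintype.card F))
    (hn : 3 ≤ n) (h : E5 q (Cfsg.POmega F (Cfsg.quadFormOdd n F))) : False := by
  obtain ⟨p, hp⟩ := CharP.exists F
  have : Fact p.Prime := ⟨CharP.char_is_prime F p⟩
  exact (bc_oodd ho hn p).kill h5 h

end Cfsg.Agent.H424.Six
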