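import Cfsg.Agent.H424.Six.SpFacts
import Cfsg.Agent.H984.FCPsp

/-!
# Elimination of sections `PSp_{2n}(u)`, `n ≥ 3`, `q = 5 ^ m` (helper424)

`psp` : `E5 q (PSp n F)` is impossible for `5 ∤ |F|`, `n ≥ 3`.
-/

set_option autoImplicit false

namespace Cfsg.Agent.H424.Six

open Cfsg.Agent.H376.Six Cfsg.Agent.H376.SpEmb Cfsg.Agent.H403 Cfsg.Agent.H424.P4 Matrix

theorem card_out_psp {F : Type*} [Field F] [Fintype F] {n p f : ℕ} [Fact p.Prime] (hn : 3 ≤ n) (hf : 1 ≤ f)
    (hF : Fintype.card F = p ^ f) [Finite (Cfsg.PSp n F)] (hna : ¬ IsMulCommutative (Cfsg.PSp n F)) :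
    Nat.card (Cfsg.Out (Cfsg.PSp n F)) = Nat.gcd 2 (p ^ f - 1) * f := by
  have hs : IsSimpleGroup (Cfsg.PSp n F) := Cfsg.Agent.S0270.result n (by omega) (by omega)
  have h1 := Cfsg.Agent.S0814.result (F := F) p f hf hF n (by omega) (by omega)
  rw [if_neg (by omega), one_mul] at h1
  exact Cfsg.Agent.H934.OutB.card_out_of_aut hna h1

theorem fifth_of_dvd {u p f g : ℕ} (hg : g ∣ 2) (hu : u = p ^ f) (h : 5 ∣ g * f) : ∃ v, u = v ^ 5 := by
  have h1 : 5 ∣ f := by
    rcases Nat.prime_five.dvd_mul.1 h with h2 | h2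
    · have := Nat.le_of_dvd (by norm_num) (h2.trans hg)
      omega
    · exact h2
  obtain ⟨k, rfl⟩ := h1
  exact ⟨p ^ k, by rw [hu, ← pow_mul, mul_comm]⟩

theorem bc_psp {F : Type*} [Field F] [Fintype F] {n : ℕ} (hn : 3 ≤ n) (p : ℕ) [hp : Fact p.Prime] [hFp : CharP F p] :
    BC (Fintype.card F) p n (Cfsg.PSp n F) := by
  classical
  have hfin : Finite (Matrix.symplecticGroup (Fin n) F) :=
    Finite.of_injective (fun A => (A : Matrix (Fin n ⊕ Fin n) (Fin n ⊕ Fin n) F)) Subtype.val_injective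
  have hfin' : Finite (Cfsg.PSp n F) := inferInstanceAs
    (Finite (Matrix.symplecticGroup (Fin n) F ⧸ Subgroup.center (Matrix.symplecticGroup (Fin n) F)))
  obtain ⟨f, -, hf⟩ := FiniteField.card F p
  have hu2 : 2 ≤ Nat.card F := Finite.one_lt_card
  have hfrob : ∀ r : ℕ, r.Prime → r ≠ 2 → ¬ r ∣ Fintype.card F → ∀ i, 1 ≤ i → i < n →
      r ∣ Fintype.card F ^ (2 * i) - 1 → ∃ U : Subgroup (Cfsg.PSp n F), IsPGroup p U ∧ ∃ y : Cfsg.PSp n F,
        orderOf y = r ∧ (∀ x ∈ U, y * x * y⁻¹ ∈ U) ∧ ∃ x ∈ U, y * x ≠ x * y := by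
    intro r hr hr2 hru i hi1 hi2 hd
    have hrp : r ≠ p := by
      rintro rfl
      apply hru
      rw [hf]
      exact dvd_pow_self _ f.ne_zero
    rw [← Nat.card_eq_fintype_card] at hd
    have hex : ∃ A : symplecticGroup (Fin i) F, orderOf A = r := by
      rw [← ts_mul _ _ (Or.inl rfl : (1 : ℤ) = 1 ∨ (1 : ℤ) = -1)] at hd
      rcases hr.dvd_mul.1 hd with h1 | h1
      · rw [ts_one] at h1
        refine exists_of_dvd ?_ h1 (exists_minus F i (by omega))
        have := Nat.one_lt_pow (n := i) (by omega) (show 1 < Nat.card F by omega)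
        omega
      · rw [ts_neg] at h1
        exact exists_of_dvd (by omega) h1 (exists_plus F i (by omega))
    obtain ⟨A, hA⟩ := hex
    exact Sp.psp_frob p hr hrp hi2 A hA
  have hna : ¬ IsMulCommutative (Cfsg.PSp n F) := Cfsg.Agent.H984.FC.Psp.not_comm (by omega) (by omega)
  refine ⟨hp.out, ⟨f, f.pos, hf⟩, hn, hfin', ?_, ?_, ?_, hfrob, ?_⟩
  · intro g hg
    obtain ⟨A, rfl⟩ := QuotientGroup.mk_surjective g
    set N := orderOf (QuotientGroup.mk A : Cfsg.PSp n F) with hN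
    -- `M = A ^ (N + 1)`
    have h1 : (A ^ N) ∈ Subgroup.center (Matrix.symplecticGroup (Fin n) F) := by
      rw [← QuotientGroup.eq_one_iff, QuotientGroup.mk_pow]
      exact pow_orderOf_eq_one _
    have h2 := center_pow _ h1
    set M := A ^ (N + 1) with hM
    have hMN : M ^ N = 1 := by
      obtain ⟨c, hc⟩ := hg.add_one
      rw [hM, ← pow_mul, mul_comm, pow_mul, hc, ← two_mul, pow_mul, h2, one_pow]
    have hMg : (QuotientGroup.mk M : Cfsg.PSp n F) = QuotientGroup.mk A := by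
      rw [hM, QuotientGroup.mk_pow, pow_succ, hN, pow_orderOf_eq_one, one_mul]
    have hMU : IsUnit (M : Matrix (Fin n ⊕ Fin n) (Fin n ⊕ Fin n) F) := by
      refine ⟨⟨M.1, M⁻¹.1, ?_, ?_⟩, rfl⟩
      · exact congrArg Subtype.val (mul_inv_cancel M)
      · exact congrArg Subtype.val (inv_mul_cancel M)
    obtain ⟨L, b, n', hL, hML, hc⟩ := exists_TL_odd (F := F) (n := n) M.1 hMU (charpoly_inv M).symm p
      (by rw [Fintype.card_sum, Fintype.card_fin]; omega) (N := N) (congrArg Subtype.val hMN) hg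
    refine ⟨L, b, n', hL, ?_, hc⟩
    rw [hN, ← hMg]
    apply orderOf_dvd_of_pow_eq_one
    rw [← QuotientGroup.mk_pow]
    have h3 : M ^ (L * p ^ b) = 1 := Subtype.ext hML
    rw [h3, QuotientGroup.mk_one]
  · intro k h1 h2 ε hε
    rw [← Nat.card_eq_fintype_card]
    exact psp_T2 h1 h2 hε
  · intro k h1 h2 ε hε
    rw [← Nat.card_eq_fintype_card]
    obtain ⟨A, hA⟩ : ∃ A : Matrix.symplecticGroup (Fin k) F, orderOf A = ts (Nat.card F) k ε := by
      rcases hε with rfl | rfl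
      · rw [ts_one]
        exact exists_minus F k (by omega)
      · rw [ts_neg]
        exact exists_plus F k (by omega)
    obtain ⟨B, hB⟩ := exists_minus F 1 (by norm_num)
    rw [pow_one] at hB
    obtain ⟨C, hC⟩ := exists_block (n := n) (a := k) (b := 1) (by omega) A hA B hB
    refine ⟨(QuotientGroup.mk C : Cfsg.PSp n F), ?_⟩
    rw [← hC]
    apply orderOf_dvd_of_pow_eq_one
    have h1 : (C ^ orderOf (QuotientGroup.mk C : Cfsg.PSp n F)) ∈
        Subgroup.center (Matrix.symplecticGroup (Fin n) F) := by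
      rw [← QuotientGroup.eq_one_iff, QuotientGroup.mk_pow]
      exact pow_orderOf_eq_one _
    have h2 := center_pow _ h1
    rw [mul_comm, pow_mul]
    exact h2
  · intro h
    rw [card_out_psp hn f.pos hf hna] at h
    exact fifth_of_dvd (Nat.gcd_dvd_left 2 _) hf h

/-- **`PSp_{2n}(u)`, `n ≥ 3`.** -/
theorem psp {q n : ℕ} {F : Type*} [Field F] [Fintype F] (h5 : ¬ 5 ∣ Fintype.card F) (hn : 3 ≤ n)
    (h : E5 q (Cfsg.PSp n F)) : False := by
  obtain ⟨p, hp⟩ := CharP.exists F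
  have : Fact p.Prime := ⟨CharP.char_is_prime F p⟩
  exact (bc_psp hn p).kill h5 h

end Cfsg.Agent.H424.Six
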