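import Mathlib

/-!
# Elements of prime order acting nontrivially on the radical of the stabilizer of a singular vector (helper424)

`frob_abs` : `G` a group of isometries of a reflexive nondegenerate bilinear form over a field of characteristic `p`,
with scalar centre, containing all Siegel transformations of `e`; `y ∈ G` of prime order `r ≠ p`, `y e = e`.  Then `y`
normalises but does not centralise a `p`-subgroup of `G / Z(G)`.
-/

set_option autoImplicit false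

namespace Cfsg.Agent.H424.Six

open Matrix

section

variable {G : Type*} [Group G] {F : Type*} [Field F] {ι : Type*} [Fintype ι] [DecidableEq ι]
  (ρ : G →* Matrix ι ι F) (β : (ι → F) → (ι → F) → F) (e : ι → F)

/-- the radical of the stabilizer of `e` -/
def rad : Subgroup G where
  carrier := {g | ρ g *ᵥ e = e ∧ ∀ v, β e v = 0 → ∃ c : F, ρ g *ᵥ v = v + c • e}
  one_mem' := ⟨by rw [map_one, one_mulVec], fun v _ => ⟨0, by rw [map_one, one_mulVec, zero_smul, add_zero]⟩⟩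
  mul_mem' := by
    rintro a b ⟨ha1, ha2⟩ ⟨hb1, hb2⟩
    refine ⟨by rw [map_mul, ← mulVec_mulVec, hb1, ha1], fun v hv => ?_⟩
    obtain ⟨c, hc⟩ := hb2 v hv
    obtain ⟨d, hd⟩ := ha2 v hv
    refine ⟨d + c, ?_⟩
    rw [map_mul, ← mulVec_mulVec, hc, mulVec_add, mulVec_smul, ha1, hd, add_smul, add_assoc]
  inv_mem' := by
    rintro a ⟨ha1, ha2⟩
    have h : ∀ v, ρ a⁻¹ *ᵥ (ρ a *ᵥ v) = v := fun v => by
      rw [mulVec_mulVec, ← map_mul, inv_mul_cancel, map_one, one_mulVec]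
    have h1 : ρ a⁻¹ *ᵥ e = e := by
      have := h e
      rwa [ha1] at this
    refine ⟨h1, fun v hv => ?_⟩
    obtain ⟨c, hc⟩ := ha2 v hv
    refine ⟨-c, ?_⟩
    have h2 := h v
    rw [hc, mulVec_add, mulVec_smul, h1] at h2
    rw [neg_smul, ← sub_eq_add_neg, eq_sub_iff_add_eq]
    exact h2

variable {ρ β e}

theorem mem_rad {g : G} : g ∈ rad ρ β e ↔ ρ g *ᵥ e = e ∧ ∀ v, β e v = 0 → ∃ c : F, ρ g *ᵥ v = v + c • e := Iff.rfl

theorem rad_pgroup (p : ℕ) [hp : Fact p.Prime] [CharP F p] (hρ : Function.Injective ρ)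
    (hsub : ∀ x y z, β x (y - z) = β x y - β x z) (hG : ∀ g v w, β (ρ g *ᵥ v) (ρ g *ᵥ w) = β v w) :
    IsPGroup p (rad ρ β e) := by
  rintro ⟨g, hg1, hg2⟩
  refine ⟨2, ?_⟩
  apply Subtype.ext
  apply hρ
  show ρ (g ^ p ^ 2) = ρ 1
  rw [map_pow, map_one]
  have h3 : (ρ g - 1) ^ 3 = 0 := by
    apply Matrix.mulVec_injective
    funext v
    rw [zero_mulVec, pow_succ, pow_two, ← mulVec_mulVec, ← mulVec_mulVec]
    have h1 : β e ((ρ g - 1) *ᵥ v) = 0 := by
      rw [sub_mulVec, one_mulVec, hsub]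
      nth_rewrite 1 [← hg1]
      rw [hG, sub_self]
    obtain ⟨c, hc⟩ := hg2 _ h1
    have h2 : (ρ g - 1) *ᵥ ((ρ g - 1) *ᵥ v) = c • e := by
      rw [sub_mulVec (ρ g) 1 ((ρ g - 1) *ᵥ v), one_mulVec, hc, add_sub_cancel_left]
    rw [h2, mulVec_smul, sub_mulVec, one_mulVec, hg1, sub_self, smul_zero]
  have hpp := hp.out.two_le
  rcases isEmpty_or_nonempty ι with hι | hι
  · exact Subsingleton.elim _ _
  have h4 : (ρ g - 1) ^ p ^ 2 = 0 := by
    have h5 : 3 ≤ p ^ 2 := by nlinarith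
    obtain ⟨k, hk⟩ := Nat.exists_eq_add_of_le h5
    rw [hk, pow_add, h3, zero_mul]
  have : CharP (Matrix ι ι F) p := Matrix.charP p
  rw [sub_pow_char_pow_of_commute p 2 (Commute.one_right (ρ g)), one_pow, sub_eq_zero] at h4
  exact h4

theorem frob_abs (p : ℕ) [hp : Fact p.Prime] [CharP F p] (hρ : Function.Injective ρ)
    (hsub : ∀ x y z, β x (y - z) = β x y - β x z) (hsmul : ∀ x (c : F) y, β x (c • y) = c * β x y)
    (hsub' : ∀ x y z, β (x - y) z = β x z - β y z) (hsmul' : ∀ x (c : F) y, β (c • x) y = c * β x y)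
    (hG : ∀ g v w, β (ρ g *ᵥ v) (ρ g *ᵥ w) = β v w) (hnd : ∀ x, x ≠ 0 → ∃ y, β x y ≠ 0)
    (hz : ∀ z ∈ Subgroup.center G, ∃ c : F, ρ z = c • (1 : Matrix ι ι F)) (he : e ≠ 0)
    (hE : ∀ w, β e w = 0 → ∃ g : G, ρ g *ᵥ e = e ∧ ∀ v, β e v = 0 → ρ g *ᵥ v = v + β v w • e)
    {y : G} {r : ℕ} (hr : r.Prime) (hrp : r ≠ p) (hy : orderOf y = r) (hye : ρ y *ᵥ e = e) :
    ∃ U : Subgroup (G ⧸ Subgroup.center G), IsPGroup p U ∧ ∃ y' : G ⧸ Subgroup.center G, orderOf y' = r ∧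
      (∀ x ∈ U, y' * x * y'⁻¹ ∈ U) ∧ ∃ x ∈ U, y' * x ≠ x * y' := by
  have hpg := rad_pgroup (ρ := ρ) (β := β) (e := e) p hρ hsub hG
  -- `y` is not in the radical
  have hyU : y ∉ rad ρ β e := by
    intro hmem
    obtain ⟨k, hk⟩ := hpg ⟨y, hmem⟩
    have h1 : y ^ p ^ k = 1 := congrArg Subtype.val hk
    have h2 := orderOf_dvd_of_pow_eq_one h1
    rw [hy] at h2
    exact hrp ((Nat.prime_dvd_prime_iff_eq hr hp.out).1 (hr.dvd_of_dvd_pow h2))
  obtain ⟨v, hv1, hv2⟩ : ∃ v, β e v = 0 ∧ ∀ c : F, ρ y *ᵥ v ≠ v + c • e := by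
    by_contra hcon
    push Not at hcon
    exact hyU ⟨hye, hcon⟩
  set x := ρ y *ᵥ v - v with hx
  have hx0 : ∀ c : F, x ≠ c • e := fun c hc => hv2 c (by rw [← hc, hx]; abel)
  -- a vector `w` orthogonal to `e` and not to `x`
  obtain ⟨w, hw1, hw2⟩ : ∃ w, β e w = 0 ∧ β x w ≠ 0 := by
    by_contra hcon
    push Not at hcon
    obtain ⟨w0, hw0⟩ := hnd e he
    have h1 : ∀ w, β (x - (β x w0 * (β e w0)⁻¹) • e) w = 0 := by
      intro w
      have h2 : β e (w - (β e w * (β e w0)⁻¹) • w0) = 0 := by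
        rw [hsub, hsmul]
        field_simp
        ring
      have h3 := hcon _ h2
      rw [hsub, hsmul] at h3
      rw [hsub', hsmul']
      linear_combination h3
    by_cases h4 : x - (β x w0 * (β e w0)⁻¹) • e = 0
    · exact hx0 _ (sub_eq_zero.1 h4)
    · obtain ⟨z, hz'⟩ := hnd _ h4
      exact hz' (h1 z)
  obtain ⟨g, hg1, hg2⟩ := hE w hw1
  -- central elements fixing `e` are trivial
  have hcz : ∀ z ∈ Subgroup.center G, ρ z *ᵥ e = e → z = 1 := by
    intro z hz1 hz2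
    obtain ⟨c, hc⟩ := hz z hz1
    rw [hc, smul_mulVec, one_mulVec] at hz2
    have h1 : c = 1 := by
      have h2 : (c - 1) • e = 0 := by rw [sub_smul, one_smul, hz2, sub_self]
      rcases smul_eq_zero.1 h2 with h3 | h3
      · linear_combination h3
      · exact absurd h3 he
    apply hρ
    rw [hc, h1, one_smul, map_one]
  have : Fact r.Prime := ⟨hr⟩
  have hy1 : y ≠ 1 := by
    rintro rfl
    rw [orderOf_one] at hy
    exact hr.one_lt.ne hy
  refine ⟨(rad ρ β e).map (QuotientGroup.mk' _), hpg.map _, QuotientGroup.mk y, ?_, ?_, ?_⟩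
  · apply orderOf_eq_prime
    · rw [← QuotientGroup.mk_pow, ← hy, pow_orderOf_eq_one, QuotientGroup.mk_one]
    · intro h
      exact hy1 (hcz y ((QuotientGroup.eq_one_iff _).1 h) hye)
  · rintro _ ⟨u, hu, rfl⟩
    refine ⟨y * u * y⁻¹, ?_, ?_⟩
    · obtain ⟨hu1, hu2⟩ := hu
      have hyi : ∀ v, ρ y⁻¹ *ᵥ (ρ y *ᵥ v) = v := fun v => by
        rw [mulVec_mulVec, ← map_mul, inv_mul_cancel, map_one, one_mulVec]
      have hyi' : ∀ v, ρ y *ᵥ (ρ y⁻¹ *ᵥ v) = v := fun v => by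
        rw [mulVec_mulVec, ← map_mul, mul_inv_cancel, map_one, one_mulVec]
      have hye' : ρ y⁻¹ *ᵥ e = e := by
        have := hyi e
        rwa [hye] at this
      refine ⟨?_, fun v hv => ?_⟩
      · rw [map_mul, map_mul, ← mulVec_mulVec, ← mulVec_mulVec, hye', hu1, hye]
      · have h1 : β e (ρ y⁻¹ *ᵥ v) = 0 := by
          rw [← hG y, hye, hyi', hv]
        obtain ⟨c, hc⟩ := hu2 _ h1
        refine ⟨c, ?_⟩
        rw [map_mul, map_mul, ← mulVec_mulVec, ← mulVec_mulVec, hc, mulVec_add, mulVec_smul, hye, hyi']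
    · simp
  · refine ⟨QuotientGroup.mk g, ⟨g, ⟨hg1, fun v hv => ⟨_, hg2 v hv⟩⟩, rfl⟩, fun hcomm => ?_⟩
    have h1 : (g * y)⁻¹ * (y * g) ∈ Subgroup.center G := by
      rw [← QuotientGroup.eq, QuotientGroup.mk_mul, QuotientGroup.mk_mul]
      exact hcomm.symm
    have h2 : (g * y)⁻¹ * (y * g) = 1 := by
      apply hcz _ h1
      have h3 : ρ (g * y) *ᵥ e = e := by rw [map_mul, ← mulVec_mulVec, hye, hg1]
      have h4 : ρ (y * g) *ᵥ e = e := by rw [map_mul, ← mulVec_mulVec, hg1, hye]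
      rw [map_mul, ← mulVec_mulVec, h4]
      nth_rewrite 1 [← h3]
      rw [mulVec_mulVec, ← map_mul, inv_mul_cancel, map_one, one_mulVec]
    have h3 : g * y = y * g := inv_mul_eq_one.1 h2
    have h4 : ρ g *ᵥ (ρ y *ᵥ v) = ρ y *ᵥ (ρ g *ᵥ v) := by
      rw [mulVec_mulVec, mulVec_mulVec, ← map_mul, ← map_mul, h3]
    have h5 : β e (ρ y *ᵥ v) = 0 := by
      have := hG y e v
      rwa [hye, hv1] at this
    rw [hg2 _ h5, hg2 _ hv1, mulVec_add, mulVec_smul, hye] at h4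
    have h6 := add_left_cancel h4
    have h7 : (β (ρ y *ᵥ v) w - β v w) • e = 0 := by rw [sub_smul, h6, sub_self]
    rw [← hsub'] at h7
    rcases smul_eq_zero.1 h7 with h8 | h8
    · exact hw2 h8
    · exact he h8

end

end Cfsg.Agent.H424.Six
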