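import Cfsg.Agent.H424.Six.Num

/-!
# Elimination of sections of types `B_n`, `C_n`, `q = 5 ^ m` (helper424)

`BC u p n S` : the facts used about `PSp_{2n}(u)`, `Ω_{2n+1}(u)`, `n ≥ 3`, `u` a power of `p`.

`BC.kill` : `E5 q S` is impossible for `5 ∤ u`.
-/

set_option autoImplicit false

namespace Cfsg.Agent.H424.Six

open Cfsg.Agent.H376.Six Cfsg.Agent.H403 Cfsg.Agent.H424.P4

/-- The facts used about the groups of types `B_n`, `C_n` over the field of `u` elements -/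
structure BC (u p n : ℕ) (S : Type*) [Group S] : Prop where
  pr : p.Prime
  pow : ∃ f, 1 ≤ f ∧ u = p ^ f
  three : 3 ≤ n
  fin : Finite S
  odd : ∀ g : S, Odd (orderOf g) → ∃ L b n', TL u n' L ∧ orderOf g ∣ L * p ^ b ∧
    ((b = 0 ∧ n' = n) ∨ (1 ≤ b ∧ n' + 1 = n ∧ p ^ (b - 1) ≤ 2 * n))
  tor : ∀ k, 1 ≤ k → k ≤ n → ∀ ε : ℤ, ε = 1 ∨ ε = -1 → T2 S (ts u k ε)
  pair : ∀ k, 1 ≤ k → k < n → ∀ ε : ℤ, ε = 1 ∨ ε = -1 → T2 S (Nat.lcm (ts u k ε) (u - 1))
  frob : ∀ r : ℕ, r.Prime → r ≠ 2 → ¬ r ∣ u → ∀ i, 1 ≤ i → i < n → r ∣ u ^ (2 * i) - 1 →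
    ∃ U : Subgroup S, IsPGroup p U ∧ ∃ y : S, orderOf y = r ∧ (∀ x ∈ U, y * x * y⁻¹ ∈ U) ∧
      ∃ x ∈ U, y * x ≠ x * y
  out : 5 ∣ Nat.card (Cfsg.Out S) → ∃ v, u = v ^ 5

variable {u p n q : ℕ} {S : Type*} [Group S]

theorem BC.two_le (B : BC u p n S) : 2 ≤ u := by
  obtain ⟨f, hf, rfl⟩ := B.pow
  exact B.pr.two_le.trans (Nat.le_self_pow (by omega) p)

theorem BC.p_dvd (B : BC u p n S) : p ∣ u := by
  obtain ⟨f, hf, rfl⟩ := B.pow
  exact dvd_pow_self p (by omega)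

theorem BC.p_le (B : BC u p n S) : p ≤ u := Nat.le_of_dvd (by have := B.two_le; omega) B.p_dvd

theorem BC.pow_prime (B : BC u p n S) {k N : ℕ} (h : u ^ k = N) {r s : ℕ} (hr : r.Prime) (hs : s.Prime)
    (hrs : r ≠ s) (hrN : r ∣ N) (hsN : s ∣ N) : False := by
  obtain ⟨f, -, rfl⟩ := B.pow
  rw [← h, ← pow_mul] at hrN hsN
  exact hrs (((Nat.prime_dvd_prime_iff_eq hr B.pr).1 (hr.dvd_of_dvd_pow hrN)).trans
    ((Nat.prime_dvd_prime_iff_eq hs B.pr).1 (hs.dvd_of_dvd_pow hsN)).symm)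

theorem BC.w25 (B : BC u p n S) (h : E5 q S) {k : ℕ} (h1 : 1 ≤ k) (h2 : k ≤ n) {ε : ℤ} (hε : ε = 1 ∨ ε = -1) :
    ¬ 25 ∣ ts u k ε := by
  intro hd
  have h3 := T2.dvd_50 h (B.tor k h1 h2 ε hε) hd
  have hu := B.two_le
  have hpos := ts_pos hu h1 hε
  have hn := B.three
  have h4 : ts u k ε = 25 ∨ ts u k ε = 50 := by
    obtain ⟨c, hc⟩ := hd
    rw [hc] at h3 hpos ⊢
    have h5 : c ∣ 2 := (Nat.mul_dvd_mul_iff_left (by norm_num : 0 < 25)).1 (by norm_num; exact h3)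
    have h6 := Nat.le_of_dvd (by norm_num) h5
    omega
  have h5 : u ^ k = 24 ∨ u ^ k = 26 ∨ u ^ k = 49 ∨ u ^ k = 51 := by
    have h6 : 1 ≤ u ^ k := Nat.one_le_pow _ _ (by omega)
    rcases hε with rfl | rfl
    · rw [ts_one] at h4; omega
    · rw [ts_neg] at h4; omega
  rcases h5 with h5 | h5 | h5 | h5
  · exact B.pow_prime h5 Nat.prime_two Nat.prime_three (by norm_num) (by norm_num) (by norm_num)
  · exact B.pow_prime h5 Nat.prime_two (by norm_num : Nat.Prime 13) (by norm_num) (by norm_num) (by norm_num)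
  · -- `u ^ k = 49`
    have h7 : 7 ∣ u := (by norm_num : Nat.Prime 7).dvd_of_dvd_pow (show 7 ∣ u ^ k by rw [h5]; norm_num)
    have hu7 : 7 ≤ u := Nat.le_of_dvd (by omega) h7
    have hk : k ≤ 2 := by
      by_contra hcon
      have : 7 ^ 3 ≤ u ^ k := (Nat.pow_le_pow_left hu7 3).trans (Nat.pow_le_pow_right (by omega) (by omega))
      rw [h5] at this
      norm_num at this
    have h8 := T2.dvd_50 h (B.pair k h1 (by omega) ε hε) (hd.trans (Nat.dvd_lcm_left _ _))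
    have h9 : u - 1 ∣ 50 := (Nat.dvd_lcm_right _ _).trans h8
    obtain rfl | rfl : k = 1 ∨ k = 2 := by omega
    · rw [pow_one] at h5
      subst h5
      norm_num at h9
    · have : u = 7 := by nlinarith
      subst this
      norm_num at h9
  · exact B.pow_prime h5 Nat.prime_three (by norm_num : Nat.Prime 17) (by norm_num) (by norm_num) (by norm_num)

theorem BC.no25 (B : BC u p n S) (h5 : ¬ 5 ∣ u) (h : E5 q S) (x : S) : orderOf x ≠ 25 := by
  intro hx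
  obtain ⟨L, b, n', hL, hd, hc⟩ := B.odd x (by rw [hx]; decide)
  have hp5 : p ≠ 5 := fun h => h5 (h ▸ B.p_dvd)
  have h1 : 25 ∣ L := by
    rw [hx] at hd
    refine Nat.Coprime.dvd_of_dvd_mul_right ?_ hd
    exact Nat.Coprime.pow_right _ (show Nat.Coprime (5 ^ 2) p from
      Nat.Coprime.pow_left _ ((Nat.coprime_primes Nat.prime_five B.pr).2 hp5.symm))
  obtain ⟨k, hk1, hk2, hk3⟩ := tl_prime_pow hL Nat.prime_five (two_ne_zero) (show 5 ^ 2 ∣ L by norm_num; exact h1)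
  norm_num at hk3
  rcases hk3 with hk3 | hk3
  · exact B.w25 h hk1 (by omega) (Or.inl rfl) (by rw [ts_one]; exact hk3)
  · exact B.w25 h hk1 (by omega) (Or.inr rfl) (by rw [ts_neg]; exact hk3)

theorem fifth_pow_mod (v : ℕ) (h : ¬ 5 ∣ v) : 25 ∣ (v ^ 5) ^ 2 - 1 ∨ 25 ∣ (v ^ 5) ^ 2 + 1 := by
  have h1 : (v ^ 5) ^ 2 % 25 = 1 ∨ (v ^ 5) ^ 2 % 25 = 24 := by
    have h2 : ∀ w : ℕ, w < 25 → ¬ 5 ∣ w → (w ^ 5) ^ 2 % 25 = 1 ∨ (w ^ 5) ^ 2 % 25 = 24 := by decide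
    have h3 := h2 (v % 25) (Nat.mod_lt _ (by norm_num)) (by omega)
    have h4 : (v ^ 5) ^ 2 % 25 = ((v % 25) ^ 5) ^ 2 % 25 := by
      rw [← pow_mul, ← pow_mul]
      exact Nat.pow_mod _ _ _
    rwa [← h4] at h3
  omega

theorem BC.no_out (B : BC u p n S) (h5 : ¬ 5 ∣ u) (h : E5 q S) : ¬ 5 ∣ Nat.card (Cfsg.Out S) := by
  intro hd
  obtain ⟨v, rfl⟩ := B.out hd
  have hn := B.three
  rcases fifth_pow_mod v (fun h => h5 (h.trans (dvd_pow_self v (by norm_num)))) with h1 | h1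
  · exact B.w25 h (k := 2) (by norm_num) (by omega) (Or.inl rfl) (by rw [ts_one]; exact h1)
  · exact B.w25 h (k := 2) (by norm_num) (by omega) (Or.inr rfl) (by rw [ts_neg]; exact h1)

/-- the semisimple case -/
theorem BC.semi (B : BC u p n S) (hcl : ∀ r : ℕ, r.Prime → r ∣ ap q * am q → ¬ r ∣ u → ∀ i, 1 ≤ i → i < n →
    ¬ r ∣ u ^ (2 * i) - 1) {x : S} {N : ℕ} (hx : orderOf x = N) (hN : N ∣ ap q * am q) (hodd : Odd N) (hN1 : N ≠ 1)
    (hp : ¬ p ∣ N) : ∃ ε : ℤ, (ε = 1 ∨ ε = -1) ∧ N ∣ ts u n ε := by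
  obtain ⟨L, b, n', hL, hd, hc⟩ := B.odd x (by rwa [hx])
  rw [hx] at hd
  have h1 : N ∣ L := Nat.Coprime.dvd_of_dvd_mul_right
    (Nat.Coprime.pow_right _ ((B.pr.coprime_iff_not_dvd.2 hp).symm)) hd
  obtain ⟨r, hr, hrN⟩ := Nat.exists_prime_and_dvd hN1
  have hru : ¬ r ∣ u := by
    obtain ⟨f, -, hf⟩ := B.pow
    intro h
    rw [hf] at h
    have h2 := (Nat.prime_dvd_prime_iff_eq hr B.pr).1 (hr.dvd_of_dvd_pow h)
    exact hp (h2 ▸ hrN)
  have h3 := hcl r hr (hrN.trans hN) hru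
  rcases hc with ⟨-, rfl⟩ | ⟨-, hn', -⟩
  · rcases tl_full hL hr (hrN.trans h1) h3 with rfl | rfl
    · exact ⟨1, Or.inl rfl, by rwa [ts_one]⟩
    · exact ⟨-1, Or.inr rfl, by rwa [ts_neg]⟩
  · exfalso
    obtain ⟨k, hk1, hk2, hk3⟩ := tl_prime_pow hL hr one_ne_zero (by rw [pow_one]; exact hrN.trans h1)
    rw [pow_one] at hk3
    rcases hk3 with hk3 | hk3
    · exact h3 k hk1 (by omega) (hk3.trans (pow_sub_dvd_two u k).1)
    · exact h3 k hk1 (by omega) (hk3.trans (pow_sub_dvd_two u k).2)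

/-- the unipotent case -/
theorem BC.unip (B : BC u p n S) (hcl : ∀ r : ℕ, r.Prime → r ∣ ap q * am q → ¬ r ∣ u → ∀ i, 1 ≤ i → i < n →
    ¬ r ∣ u ^ (2 * i) - 1) {x : S} {N : ℕ} (hx : orderOf x = N) (hN : N ∣ ap q * am q) (hodd : Odd N)
    (hp : p ∣ N) (hp7 : 7 ≤ p) : N ≤ 2 * n * p ∧ (n = 3 → N ≤ p) := by
  obtain ⟨L, b, n', hL, hd, hc⟩ := B.odd x (by rwa [hx])
  rw [hx] at hd
  have hu := B.two_le
  have hpL : ¬ p ∣ L := tl_coprime hL B.pr (by omega) B.p_dvd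
  have hb : 1 ≤ b ∧ n' + 1 = n ∧ p ^ (b - 1) ≤ 2 * n := by
    rcases hc with ⟨rfl, -⟩ | hc
    · exfalso
      rw [pow_zero, mul_one] at hd
      exact hpL (hp.trans hd)
    · exact hc
  obtain ⟨hb1, hn', hb2⟩ := hb
  have hcop : Nat.Coprime N L := by
    apply Nat.coprime_of_dvd
    intro r hr hrN hrL
    by_cases hrp : r = p
    · exact hpL (hrp ▸ hrL)
    have hru : ¬ r ∣ u := by
      obtain ⟨f, -, hf⟩ := B.pow
      intro h
      rw [hf] at h
      exact hrp ((Nat.prime_dvd_prime_iff_eq hr B.pr).1 (hr.dvd_of_dvd_pow h))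
    have h3 := hcl r hr (hrN.trans hN) hru
    obtain ⟨k, hk1, hk2, hk3⟩ := tl_prime_pow hL hr one_ne_zero (by rwa [pow_one])
    rw [pow_one] at hk3
    rcases hk3 with hk3 | hk3
    · exact h3 k hk1 (by omega) (hk3.trans (pow_sub_dvd_two u k).1)
    · exact h3 k hk1 (by omega) (hk3.trans (pow_sub_dvd_two u k).2)
  have h1 : N ∣ p ^ b := hcop.dvd_of_dvd_mul_left hd
  have h2 : N ≤ p ^ b := Nat.le_of_dvd (Nat.pow_pos (by omega)) h1
  have h3 : p ^ b = p ^ (b - 1) * p := by rw [← pow_succ, Nat.sub_add_cancel hb1]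
  refine ⟨?_, ?_⟩
  · calc N ≤ p ^ b := h2
      _ = p ^ (b - 1) * p := h3
      _ ≤ _ := Nat.mul_le_mul_right _ hb2
  · rintro rfl
    have h4 : b - 1 = 0 := by
      by_contra h0
      have : p ^ 1 ≤ p ^ (b - 1) := Nat.pow_le_pow_right (by omega) (by omega)
      rw [pow_one] at this
      omega
    rw [h3, h4, pow_zero, one_mul] at h2
    exact h2

theorem cc_two_or (u : ℕ) : cc u = 1 ∨ cc u = 2 := by
  unfold cc
  split_ifs <;> simp

theorem BC.kill (B : BC u p n S) (h5 : ¬ 5 ∣ u) (h : E5 q S) : False := by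
  rcases h.five with ⟨⟨xa, ha⟩, ⟨xb, hb⟩, hNF | ho⟩ | ⟨x, hx⟩
  swap
  · exact B.no_out h5 h ho
  swap
  · exact B.no25 h5 h x hx
  have hq5 := E5.five_le h
  have hq2 : 2 ≤ q := by omega
  have hqo := E5.odd h
  have hn := B.three
  have hu := B.two_le
  have : Finite S := B.fin
  have hp5 : p ≠ 5 := fun h => h5 (h ▸ B.p_dvd)
  have hapo : Odd (ap q) := Nat.coprime_two_left.1 (ap_odd hq2)
  have hamo : Odd (am q) := Nat.coprime_two_left.1 (am_odd hq2)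
  have hap3 := three_ap hq2
  have ham3 := three_am hq2
  have hq25 : q = 5 ∨ 25 ≤ q := by
    obtain ⟨m, hm, rfl⟩ := h.pow
    rcases hm.eq_or_lt with rfl | hm2
    · left; norm_num
    · right
      calc 25 = 5 ^ 2 := by norm_num
        _ ≤ _ := Nat.pow_le_pow_right (by norm_num) hm2
  have hap1 : ap q ≠ 1 := by nlinarith
  have hqq : q * 5 ≤ q ^ 2 := by rw [pow_two]; exact Nat.mul_le_mul_left _ hq5
  have ham1 : am q ≠ 1 := by omega
  have hcl : ∀ r : ℕ, r.Prime → r ∣ ap q * am q → ¬ r ∣ u → ∀ i, 1 ≤ i → i < n → ¬ r ∣ u ^ (2 * i) - 1 := by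
    intro r hr hrd hru i hi1 hi2 hd
    obtain ⟨h2, -, -, -⟩ := E5.prime_ne h hr hrd
    obtain ⟨U, hU, y, hy, hn1, x, hx, hne⟩ := B.frob r hr h2 hru i hi1 hi2 hd
    exact hne (hNF r hr hrd p B.pr hp5 (fun h => hru (h ▸ B.p_dvd)) U hU y hy hn1 x hx)
  -- tori divisible by a prime divisor of `ap`, `am`
  have htorA : ∀ ε : ℤ, (ε = 1 ∨ ε = -1) → ap q ∣ ts u n ε → ap q ∣ hf u n ε ∧ hf u n ε ∣ (q ^ 3 - 1) / 2 := by
    intro ε hε hd
    have h1 : ap q ∣ hf u n ε := by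
      rw [← hf_mul hε] at hd
      refine Nat.Coprime.dvd_of_dvd_mul_left ?_ hd
      rcases cc_two_or u with hc | hc <;> rw [hc]
      · exact Nat.coprime_one_right _
      · exact (ap_odd hq2).symm
    obtain ⟨x, hx⟩ := T2.hf hε (by omega) hu (B.tor n (by omega) le_rfl ε hε)
    obtain ⟨r, hr, hrd⟩ := Nat.exists_prime_and_dvd hap1
    have h2 := E5.of_ap h hr hrd (x := x) (by rw [hx]; exact hrd.trans h1)
    rw [hx] at h2
    exact ⟨h1, h2⟩
  have htorB : ∀ ε : ℤ, (ε = 1 ∨ ε = -1) → am q ∣ ts u n ε → am q ∣ hf u n ε ∧ hf u n ε ∣ (q ^ 3 + 1) / 2 := by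
    intro ε hε hd
    have h1 : am q ∣ hf u n ε := by
      rw [← hf_mul hε] at hd
      refine Nat.Coprime.dvd_of_dvd_mul_left ?_ hd
      rcases cc_two_or u with hc | hc <;> rw [hc]
      · exact Nat.coprime_one_right _
      · exact (am_odd hq2).symm
    obtain ⟨x, hx⟩ := T2.hf hε (by omega) hu (B.tor n (by omega) le_rfl ε hε)
    obtain ⟨r, hr, hrd⟩ := Nat.exists_prime_and_dvd ham1
    have h2 := E5.of_am h hr hrd (x := x) (by rw [hx]; exact hrd.trans h1)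
    rw [hx] at h2
    exact ⟨h1, h2⟩
  have hq3 : 125 ≤ q ^ 3 := by
    calc 125 = 5 ^ 3 := by norm_num
      _ ≤ _ := Nat.pow_le_pow_left hq5 3
  have hun : ∀ ε : ℤ, (ε = 1 ∨ ε = -1) → hf u n ε ≤ (q ^ 3 + 1) / 2 → u ^ n ≤ q ^ 3 + 2 := by
    intro ε hε hle
    have h1 := hf_mul (u := u) (k := n) hε
    have h2 : u ^ n ≤ ts u n ε + 1 := by
      rcases hε with rfl | rfl
      · rw [ts_one]; omega
      · rw [ts_neg]; omega
    rw [← h1] at h2
    have h3 : cc u * hf u n ε ≤ 2 * ((q ^ 3 + 1) / 2) := Nat.mul_le_mul (cc_le u) hle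
    omega
  have hp7 : ∀ N, Odd N → N ∣ ap q * am q → p ∣ N → 7 ≤ p := by
    intro N hN hNd hpN
    obtain ⟨h2, h3, -, -⟩ := E5.prime_ne h B.pr (hpN.trans hNd)
    by_contra hcon
    have h4 := B.pr.two_le
    have h6 : p = 4 ∨ p = 6 := by omega
    rcases h6 with rfl | rfl
    · exact absurd B.pr (by norm_num)
    · exact absurd B.pr (by norm_num)
  by_cases hpa : p ∣ ap q
  · -- `ap` is a power of the characteristic
    have h7 := hp7 _ hapo (dvd_mul_right _ _) hpa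
    obtain ⟨hN2, hN3⟩ := B.unip hcl ha (dvd_mul_right _ _) hapo hpa h7
    have hpb : ¬ p ∣ am q := by
      intro hpb
      have h1 := Nat.dvd_gcd (hpa.trans (ap_dvd_half hq2 hqo)) (hpb.trans (am_dvd_half hq2 hqo))
      rw [coprime_half hqo] at h1
      exact B.pr.one_lt.ne' (Nat.dvd_one.1 h1)
    obtain ⟨ε, hε, hd⟩ := B.semi hcl hb (dvd_mul_left _ _) hamo ham1 hpb
    have h1 := Nat.le_of_dvd (by omega) (htorB ε hε hd).2
    exact num_small hq5 hq25 hn h7 B.p_le (hun ε hε h1) (by omega) hN2 hN3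
  · obtain ⟨ε, hε, hd⟩ := B.semi hcl ha (dvd_mul_right _ _) hapo hap1 hpa
    obtain ⟨hA1, hA2⟩ := htorA ε hε hd
    have hAle := Nat.le_of_dvd (by omega) hA2
    by_cases hpb : p ∣ am q
    · have h7 := hp7 _ hamo (dvd_mul_left _ _) hpb
      obtain ⟨hN2, hN3⟩ := B.unip hcl hb (dvd_mul_left _ _) hamo hpb h7
      exact num_small hq5 hq25 hn h7 B.p_le (hun ε hε (by omega)) (by omega) hN2 hN3
    · obtain ⟨δ, hδ, hd'⟩ := B.semi hcl hb (dvd_mul_left _ _) hamo ham1 hpb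
      obtain ⟨hB1, hB2⟩ := htorB δ hδ hd'
      have hne : ε ≠ δ := by
        rintro rfl
        have h1 := Nat.dvd_gcd (hA1.trans hA2) (hA1.trans hB2)
        rw [coprime_half hqo] at h1
        exact hap1 (Nat.dvd_one.1 h1)
      have hA0 : 0 < hf u n ε := Nat.pos_of_ne_zero fun h0 => by rw [h0] at hA2; have := Nat.eq_zero_of_zero_dvd hA2; omega
      have hB0 : 0 < hf u n δ := Nat.pos_of_ne_zero fun h0 => by rw [h0] at hB2; have := Nat.eq_zero_of_zero_dvd hB2; omega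
      have hbig := E5.big h
      have h1 : ap q * am q ≤ hf u n ε * hf u n δ := Nat.mul_le_mul (Nat.le_of_dvd hA0 hA1) (Nat.le_of_dvd hB0 hB1)
      have hAB : (q ^ 3 + 1) / 2 = (q ^ 3 - 1) / 2 + 1 := by omega
      rw [hAB] at hB2
      have h2 := hf_mul (u := u) (k := n) hε
      have h3 := hf_mul (u := u) (k := n) hδ
      have hun1 : 1 ≤ u ^ n := Nat.one_le_pow _ _ (by omega)
      have h4 : hf u n δ * cc u = hf u n ε * cc u + 2 ∨ hf u n ε * cc u = hf u n δ * cc u + 2 := by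
        rw [mul_comm _ (cc u), mul_comm _ (cc u), h2, h3]
        rcases hε with rfl | rfl <;> rcases hδ with rfl | rfl
        · exact absurd rfl hne
        · rw [ts_one, ts_neg]; omega
        · rw [ts_one, ts_neg]; omega
        · exact absurd rfl hne
      obtain ⟨hc, hTA, hTB⟩ := num_pair (cc_two_or u) hA2 hB2 h4 (lt_of_lt_of_le hbig h1)
      -- `u ^ n = q ^ 3`
      rw [hc] at h2 h3
      rw [hTB, hTA] at h3
      rw [hTA] at h2
      have hq3o : q ^ 3 % 2 = 1 := by rw [Nat.pow_mod, hqo]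
      have h6 : u ^ n = q ^ 3 := by
        rcases hε with rfl | rfl <;> rcases hδ with rfl | rfl
        · exact absurd rfl hne
        · rw [ts_one] at h2; omega
        · rw [ts_neg] at h2
          rw [ts_one] at h3
          omega
        · exact absurd rfl hne
      have h7 : 5 ∣ u ^ n := by rw [h6]; exact (E5.five_dvd h).trans (dvd_pow_self q (by norm_num))
      exact h5 (Nat.prime_five.dvd_of_dvd_pow h7)

end Cfsg.Agent.H424.Six
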