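import Cfsg.Agent.H376.Six.Elim
import Cfsg.Agent.H424.Six.OddOrd
import Cfsg.Agent.H424.P4Num

/-!
# Elimination of sections of types `B_n`, `C_n`, `q = 5 ^ m`: arithmetic (helper424)

* `E5.of_ap`, `E5.of_am` : orders divisible by a prime divisor of `ap q`, `am q`; `E5.of_25` : by `25`;
* `num_pair` : two tori dividing `A`, `A + 1` and differing by `1` or `2`;
* `num_small` : the case of a Sylow subgroup of the defining characteristic.
-/

set_option autoImplicit false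

namespace Cfsg.Agent.H424.Six

open Cfsg.Agent.H376.Six Cfsg.Agent.H403 Cfsg.Agent.H424.P4

section facts

variable {q : ℕ} {S : Type*} [Group S]

theorem E5.odd (h : E5 q S) : q % 2 = 1 := by
  obtain ⟨m, -, rfl⟩ := h.pow
  rw [Nat.pow_mod]
  norm_num

theorem E5.five_le (h : E5 q S) : 5 ≤ q := by
  obtain ⟨m, hm, rfl⟩ := h.pow
  exact Nat.le_self_pow (by omega) 5

theorem E5.five_dvd (h : E5 q S) : 5 ∣ q := by
  obtain ⟨m, hm, rfl⟩ := h.pow
  exact dvd_pow_self 5 (by omega)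

theorem E5.prime_ne (h : E5 q S) {r : ℕ} (hr : r.Prime) (hd : r ∣ ap q * am q) : r ≠ 2 ∧ r ≠ 3 ∧ r ≠ 5 ∧ ¬ r ∣ q ^ 4 - 1 := by
  have hq : 2 ≤ q := by have := E5.five_le h; omega
  have h5 := E5.five_dvd h
  rcases hr.dvd_mul.1 hd with h1 | h1
  · obtain ⟨a, b, c⟩ := ap_ne hq hr h1
    exact ⟨a, b, fun h => c (h ▸ h5), ap_prime hq hr h1⟩
  · obtain ⟨a, b, c⟩ := am_ne hq hr h1
    exact ⟨a, b, fun h => c (h ▸ h5), am_prime hq hr h1⟩

theorem E5.of_both (h : E5 q S) {r : ℕ} (hr : r.Prime) (hd : r ∣ ap q * am q) {x : S} (hx : r ∣ orderOf x) :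
    orderOf x ∣ (q ^ 3 - 1) / 2 ∨ orderOf x ∣ (q ^ 3 + 1) / 2 := by
  obtain ⟨h2, h3, h5, h4⟩ := E5.prime_ne h hr hd
  have key5 : ¬ r ∣ 5 := fun h => h5 ((Nat.prime_dvd_prime_iff_eq hr Nat.prime_five).1 h)
  rcases h.ub x with h1 | h1 | h1 | h1 | h1 | h1
  · exact Or.inl h1
  · exact Or.inr h1
  · exact absurd ((hx.trans h1).trans (Nat.div_dvd_of_dvd (by
      have h6 : 8 ∣ q ^ 2 - 1 := by
        have h7 := E5.odd h
        have h8 : q ^ 2 % 8 = 1 := by
          have : q % 8 = 1 ∨ q % 8 = 3 ∨ q % 8 = 5 ∨ q % 8 = 7 := by omega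
          rcases this with h | h | h | h <;> rw [Nat.pow_mod, h]
        omega
      exact (Dvd.dvd.trans (by norm_num) h6).trans (sq_pm_dvd q).2))) h4
  · rcases hr.dvd_mul.1 (hx.trans h1) with h6 | h6
    · exact absurd h6 key5
    · exact absurd (h6.trans (sq_pm_dvd q).1) h4
  · rcases hr.dvd_mul.1 (hx.trans h1) with h6 | h6
    · exact absurd h6 key5
    · exact absurd (h6.trans (sq_pm_dvd q).2) h4
  · exact absurd (hr.dvd_of_dvd_pow (show r ∣ 5 ^ 2 by norm_num; exact hx.trans h1)) key5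

theorem E5.of_ap (h : E5 q S) {r : ℕ} (hr : r.Prime) (hd : r ∣ ap q) {x : S} (hx : r ∣ orderOf x) :
    orderOf x ∣ (q ^ 3 - 1) / 2 := by
  rcases E5.of_both h hr (hd.mul_right _) hx with h1 | h1
  · exact h1
  · have hq : 2 ≤ q := by have := E5.five_le h; omega
    exact absurd (Nat.dvd_one.1 ((Nat.dvd_gcd (hd.trans (ap_dvd_half hq (E5.odd h))) (hx.trans h1)).trans
      (dvd_of_eq (coprime_half (E5.odd h))))) hr.one_lt.ne'

theorem E5.of_am (h : E5 q S) {r : ℕ} (hr : r.Prime) (hd : r ∣ am q) {x : S} (hx : r ∣ orderOf x) :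
    orderOf x ∣ (q ^ 3 + 1) / 2 := by
  rcases E5.of_both h hr (hd.mul_left _) hx with h1 | h1
  · have hq : 2 ≤ q := by have := E5.five_le h; omega
    exact absurd (Nat.dvd_one.1 ((Nat.dvd_gcd (hx.trans h1) (hd.trans (am_dvd_half hq (E5.odd h)))).trans
      (dvd_of_eq (coprime_half (E5.odd h))))) hr.one_lt.ne'
  · exact h1

/-- `25` divides the order: the order is `25` -/
theorem E5.of_25 (h : E5 q S) {x : S} (hx : 25 ∣ orderOf x) : orderOf x = 25 := by
  have h5 := E5.five_dvd h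
  have hq5 := E5.five_le h
  have h2 := E5.odd h
  have key : ∀ k, 1 ≤ k → 5 ∣ q ^ k := fun k hk => h5.trans (dvd_pow_self q (by omega))
  have h3 := key 3 (by norm_num)
  have h4 := key 4 (by norm_num)
  have h6 := key 2 (by norm_num)
  have p2 : 1 ≤ q ^ 2 := Nat.one_le_pow _ _ (by omega)
  have p3 : 1 ≤ q ^ 3 := Nat.one_le_pow _ _ (by omega)
  have p4 : 1 ≤ q ^ 4 := Nat.one_le_pow _ _ (by omega)
  have hx5 : 5 ∣ orderOf x := Dvd.dvd.trans (by norm_num) hx
  have o3 : q ^ 3 % 2 = 1 := by rw [Nat.pow_mod, h2]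
  have o4 : q ^ 4 % 4 = 1 := by
    have : q % 4 = 1 ∨ q % 4 = 3 := by omega
    rcases this with h | h <;> rw [Nat.pow_mod, h]
  rcases h.ub x with h1 | h1 | h1 | h1 | h1 | h1
  · exfalso
    have := hx5.trans h1
    omega
  · exfalso
    have := hx5.trans h1
    omega
  · exfalso
    have := hx5.trans h1
    omega
  · exfalso
    have h7 : 5 * 5 ∣ 5 * (q ^ 2 + 1) := by
      have := hx.trans h1
      norm_num
      exact this
    have := (Nat.mul_dvd_mul_iff_left (by norm_num : 0 < 5)).1 h7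
    omega
  · exfalso
    have h7 : 5 * 5 ∣ 5 * (q ^ 2 - 1) := by
      have := hx.trans h1
      norm_num
      exact this
    have := (Nat.mul_dvd_mul_iff_left (by norm_num : 0 < 5)).1 h7
    omega
  · exact Nat.dvd_antisymm h1 hx

theorem T2.dvd_50 (h : E5 q S) {M : ℕ} (hT : T2 S M) (hM : 25 ∣ M) : M ∣ 50 := by
  obtain ⟨g, hg⟩ := hT
  have h1 : 25 ∣ orderOf g := (Nat.Coprime.dvd_of_dvd_mul_left (by norm_num) (hM.trans hg))
  rw [E5.of_25 h h1] at hg
  exact hg

theorem E5.big (h : E5 q S) : 3 * ((q ^ 3 - 1) / 2 + 1) < ap q * am q := by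
  have hq5 := E5.five_le h
  have h3 : ¬ 3 ∣ q := by
    obtain ⟨m, -, rfl⟩ := h.pow
    intro hd
    have := (Nat.prime_dvd_prime_iff_eq Nat.prime_three Nat.prime_five).1 (Nat.prime_three.dvd_of_dvd_pow hd)
    omega
  have h1 := ap_mul_am (q := q) (by omega) h3
  have h2 : 5 * q ^ 3 ≤ q ^ 4 := by
    rw [pow_succ q 3, mul_comm]
    exact Nat.mul_le_mul_left _ hq5
  have h4 : 125 ≤ q ^ 3 := by
    calc 125 = 5 ^ 3 := by norm_num
      _ ≤ _ := Nat.pow_le_pow_left hq5 3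
  have h6 : 25 ≤ q ^ 2 := by
    calc 25 = 5 ^ 2 := by norm_num
      _ ≤ _ := Nat.pow_le_pow_left hq5 2
  omega

end facts

/-- two tori dividing `A`, `A + 1` and differing by `1` or `2` -/
theorem num_pair {A TA TB c : ℕ} (hc : c = 1 ∨ c = 2) (hA : TA ∣ A) (hB : TB ∣ A + 1)
    (hd : TB * c = TA * c + 2 ∨ TA * c = TB * c + 2) (h : 3 * (A + 1) < TA * TB) : c = 2 ∧ TA = A ∧ TB = TA + 1 := by
  obtain ⟨j', hj'⟩ := hA
  obtain ⟨j, hj⟩ := hB
  have hTA : 0 < TA := by
    rcases Nat.eq_zero_or_pos TA with h0 | h0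
    · rw [h0, zero_mul] at h; omega
    · exact h0
  have hTB : 0 < TB := by
    rcases Nat.eq_zero_or_pos TB with h0 | h0
    · rw [h0, mul_zero] at h; omega
    · exact h0
  have hj0 : 0 < j := by
    rcases Nat.eq_zero_or_pos j with h0 | h0
    · rw [h0, mul_zero] at hj; omega
    · exact h0
  rcases hc with rfl | rfl
  · exfalso
    rw [mul_one, mul_one] at hd
    rcases hd with rfl | rfl
    · -- `(j' - j) TA = 2 j - 1`
      have h1 : TA ≤ 2 * j := by
        by_contra hcon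
        rcases le_or_gt j' j with h2 | h2
        · obtain ⟨d, rfl⟩ := Nat.exists_eq_add_of_le h2
          nlinarith
        · obtain ⟨d, rfl⟩ := Nat.exists_eq_add_of_le (Nat.succ_le_of_lt h2)
          nlinarith [Nat.zero_le (TA * d)]
      nlinarith
    · have h1 : TB ≤ 1 + 2 * j' := by
        by_contra hcon
        rcases le_or_gt j j' with h2 | h2
        · obtain ⟨d, rfl⟩ := Nat.exists_eq_add_of_le h2
          nlinarith
        · obtain ⟨d, rfl⟩ := Nat.exists_eq_add_of_le (Nat.succ_le_of_lt h2)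
          nlinarith [Nat.zero_le (TB * d)]
      nlinarith
  · rcases hd with hd | hd
    · obtain rfl : TB = TA + 1 := by omega
      refine ⟨rfl, ?_, rfl⟩
      rcases lt_trichotomy j' j with h2 | h2 | h2
      · exfalso
        obtain ⟨d, rfl⟩ := Nat.exists_eq_add_of_le (Nat.succ_le_of_lt h2)
        nlinarith [Nat.zero_le (TA * d)]
      · subst h2
        have : j' = 1 := by nlinarith
        rw [hj', this, mul_one]
      · exfalso
        obtain ⟨d, rfl⟩ := Nat.exists_eq_add_of_le (Nat.succ_le_of_lt h2)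
        have h3 : TA + 1 ≤ j := by nlinarith [Nat.zero_le (TA * d)]
        nlinarith
    · exfalso
      obtain rfl : TA = TB + 1 := by omega
      have h1 : TB ≤ 1 + j' := by
        by_contra hcon
        rcases le_or_gt j j' with h2 | h2
        · obtain ⟨d, rfl⟩ := Nat.exists_eq_add_of_le h2
          nlinarith
        · obtain ⟨d, rfl⟩ := Nat.exists_eq_add_of_le (Nat.succ_le_of_lt h2)
          nlinarith [Nat.zero_le (TB * d)]
      nlinarith

theorem pow_seven (m : ℕ) : 262 * (m + 4) ^ 3 ≤ 7 ^ (2 * m + 5) := by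
  induction m with
  | zero => norm_num
  | succ m ih =>
    have h1 : 7 ^ (2 * (m + 1) + 5) = 49 * 7 ^ (2 * m + 5) := by
      rw [show 2 * (m + 1) + 5 = (2 * m + 5) + 2 by ring, pow_add]
      norm_num
      ring
    rw [h1]
    have h2 : (m + 1 + 4) ^ 3 ≤ 2 * (m + 4) ^ 3 := by
      nlinarith [Nat.zero_le (m ^ 3), Nat.zero_le (m ^ 2)]
    generalize (m + 1 + 4) ^ 3 = b at h2 ⊢
    generalize (m + 4) ^ 3 = a at h2 ih
    generalize 7 ^ (2 * m + 5) = X at ih ⊢
    omega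

/-- the case of a Sylow subgroup of the defining characteristic -/
theorem num_small {q u p n N : ℕ} (hq : 5 ≤ q) (hqm : q = 5 ∨ 25 ≤ q) (hn : 3 ≤ n) (hp : 7 ≤ p) (hpu : p ≤ u)
    (hu : u ^ n ≤ q ^ 3 + 2) (hN1 : q ^ 2 + 1 ≤ 3 * N + q) (hN2 : N ≤ 2 * n * p) (hN3 : n = 3 → N ≤ p) : False := by
  rcases hn.eq_or_lt with rfl | hn4
  · have h1 := hN3 rfl
    have h2 : u ≤ q := by
      by_contra hcon
      have h3 : (q + 1) ^ 3 ≤ u ^ 3 := Nat.pow_le_pow_left (by omega) 3
      nlinarith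
    nlinarith
  · rcases hqm with rfl | hq25
    · have h1 : 7 ^ 4 ≤ u ^ n := (Nat.pow_le_pow_left (by omega) 4).trans (Nat.pow_le_pow_right (by omega) (by omega))
      norm_num at h1 hu
      omega
    · obtain ⟨m, rfl⟩ : ∃ m, n = m + 4 := ⟨n - 4, by omega⟩
      set z := u ^ (m + 4) with hz
      have hz1 : 2401 ≤ z := by
        calc 2401 = 7 ^ 4 := by norm_num
          _ ≤ u ^ 4 := Nat.pow_le_pow_left (by omega) 4
          _ ≤ _ := Nat.pow_le_pow_right (by omega) (by omega)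
      have h1 : 4 * q ^ 2 ≤ 25 * ((m + 4) * u) := by
        have h2 : N ≤ 2 * (m + 4) * u := hN2.trans (Nat.mul_le_mul_left _ hpu)
        nlinarith
      have h2 : 64 * (q ^ 3) ^ 2 ≤ 15625 * ((m + 4) ^ 3 * u ^ 3) := by
        have h3 := Nat.pow_le_pow_left h1 3
        calc 64 * (q ^ 3) ^ 2 = (4 * q ^ 2) ^ 3 := by ring
          _ ≤ _ := h3
          _ = _ := by ring
      have h3 : 599 * z ^ 2 ≤ 600 * (q ^ 3) ^ 2 := by
        obtain ⟨w, hw⟩ : ∃ w, z = w + 2 := ⟨z - 2, by omega⟩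
        have h4 : w ^ 2 ≤ (q ^ 3) ^ 2 := Nat.pow_le_pow_left (by omega) 2
        rw [hw]
        nlinarith
      have h4 : z ^ 2 = u ^ (2 * m + 5) * u ^ 3 := by
        rw [hz, ← pow_mul, ← pow_add]
        congr 1
        ring
      have h5 : 7 ^ (2 * m + 5) ≤ u ^ (2 * m + 5) := Nat.pow_le_pow_left (by omega) _
      have h6 := pow_seven m
      have h7 : 0 < u ^ 3 := Nat.pow_pos (by omega)
      have h8 : 38336 * (u ^ (2 * m + 5) * u ^ 3) ≤ 9375000 * ((m + 4) ^ 3 * u ^ 3) := by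
        rw [← h4]
        nlinarith
      have h9 : 38336 * u ^ (2 * m + 5) ≤ 9375000 * (m + 4) ^ 3 := by
        apply Nat.le_of_mul_le_mul_right _ h7
        nlinarith
      have h10 : 0 < (m + 4) ^ 3 := Nat.pow_pos (by omega)
      omega

end Cfsg.Agent.H424.Six
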