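import Cfsg.Agent.H424.Six.OrthFrob
import Cfsg.Agent.H424.Six.Kill
import Cfsg.Agent.H424.P4Sp
import Cfsg.Agent.H934.OutB
import Cfsg.Agent.S0295
import Cfsg.Agent.S0816
import Cfsg.Agent.H579.MpoMain

/-!
# Elimination of sections `Ω_{2n+1}(u)`, `n ≥ 3`, `q = 5 ^ m` (helper424)
-/

set_option autoImplicit false
set_option linter.unusedSectionVars false

namespace Cfsg.Agent.H424.Six

open QuadraticMap Cfsg Matrix
open Cfsg.Agent.LieClassical.OrthCore Cfsg.Agent.LieClassical.OrthForms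
open Cfsg.Agent.H377 Cfsg.Agent.H376.Six Cfsg.Agent.H403 Cfsg.Agent.H424.P4

section

variable {F : Type*} [Field F] [Finite F]

/-- an isometry of odd prime order fixing a singular vector -/
theorem exists_isom_fix (h2 : (2 : F) ≠ 0) {n i : ℕ} (hi : i < n) {ε : ℤ} {r : ℕ} (hr : r.Prime)
    (h : Cfsg.Agent.H377.Elt F i ε r) :
    ∃ (g : isometryGroup F ⇑(oddForm n F)) (e : Unit ⊕ (Fin n ⊕ Fin n) → F), orderOf g = r ∧ e ≠ 0 ∧
      oddForm n F e = 0 ∧ ((g : Matrix.GeneralLinearGroup (Unit ⊕ (Fin n ⊕ Fin n)) F) :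
        Matrix (Unit ⊕ (Fin n ⊕ Fin n)) (Unit ⊕ (Fin n ⊕ Fin n)) F) *ᵥ e = e := by
  classical
  obtain ⟨k, rfl⟩ : ∃ k, n = i + (k + 1) := ⟨n - i - 1, by omega⟩
  obtain ⟨-, Q₁, g₁, hQ₁, -, hg₁, ho⟩ := h
  let Q₀ : QuadraticForm F F := QuadraticMap.sq
  have hQ₀ : Nondeg Q₀ := by
    intro x hx
    have h3 := hx 1
    simp only [polar, Q₀, QuadraticMap.sq_apply] at h3
    have h4 : 2 * x = 0 := by linear_combination h3
    exact (mul_eq_zero.1 h4).resolve_left h2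
  let P : QuadraticForm F (Fin (k + 1) ⊕ Fin (k + 1) → F) := plusForm (k + 1) F
  let R := sumQ (sumQ Q₁ P) Q₀
  have hR : Nondeg R := sumQ_nondeg (sumQ_nondeg hQ₁ (nondeg_plusForm (k + 1) F)) hQ₀
  have hfr : Module.finrank F (((Fin (2 * i) → F) × (Fin (k + 1) ⊕ Fin (k + 1) → F)) × F) =
      2 * (i + (k + 1)) + 1 := by
    rw [Module.finrank_prod, Module.finrank_prod, Module.finrank_fin_fun, Module.finrank_self,
      Module.finrank_fintype_fun_eq_card, Fintype.card_sum, Fintype.card_fin]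
    ring
  obtain ⟨c, e, hc, he⟩ := exists_similar_odd hfr R hR
  let T : Module.End F (((Fin (2 * i) → F) × (Fin (k + 1) ⊕ Fin (k + 1) → F)) × F) := (g₁.prodMap 1).prodMap 1
  have hT : ∀ v, R (T v) = R v := by
    intro v
    show Q₁ (g₁ v.1.1) + P v.1.2 + Q₀ v.2 = Q₁ v.1.1 + P v.1.2 + Q₀ v.2
    rw [hg₁]
  let φ : Module.End F (((Fin (2 * i) → F) × (Fin (k + 1) ⊕ Fin (k + 1) → F)) × F) ≃ₐ[F] Matrix _ _ F :=
    (e.symm.conjAlgEquiv F).trans LinearMap.toMatrixAlgEquiv'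
  have hφ : ∀ S x, (φ S) *ᵥ x = e.symm (S (e x)) := by
    intro S x
    show (LinearMap.toMatrix' (e.symm.conj S)) *ᵥ x = _
    rw [LinearMap.toMatrix'_mulVec]
    rfl
  have hTr : T ^ r = 1 := by
    show ((g₁.prodMap 1).prodMap 1) ^ r = _
    rw [prodMap_pow', prodMap_pow', ← ho, pow_orderOf_eq_one, one_pow, one_pow]
    rfl
  have hM : ∀ x, oddForm (i + (k + 1)) F ((φ T) *ᵥ x) = oddForm (i + (k + 1)) F x := by
    intro x
    apply mul_left_cancel₀ hc
    rw [← he, ← he, hφ, e.apply_symm_apply, hT]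
  have hφr : φ T ^ r = 1 := by rw [← map_pow, hTr, map_one]
  have hr1 : r = (r - 1) + 1 := by have := hr.two_le; omega
  let M : (Matrix (Unit ⊕ (Fin (i + (k + 1)) ⊕ Fin (i + (k + 1)))) (Unit ⊕ (Fin (i + (k + 1)) ⊕ Fin (i + (k + 1)))) F)ˣ :=
    ⟨φ T, φ T ^ (r - 1), by rw [← pow_succ', ← hr1, hφr], by rw [← pow_succ, ← hr1, hφr]⟩
  have hmem : M ∈ isometryGroup F ⇑(oddForm (i + (k + 1)) F) := by
    rw [Cfsg.Agent.LieClassical.OrthFinite.mem_isometryGroup_iff]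
    exact hM
  let e₀ : ((Fin (2 * i) → F) × (Fin (k + 1) ⊕ Fin (k + 1) → F)) × F := ((0, Pi.single (Sum.inl 0) 1), 0)
  have he₀ : R e₀ = 0 := by
    show Q₁ 0 + P (Pi.single (Sum.inl 0) 1) + Q₀ 0 = 0
    rw [QuadraticMap.map_zero, QuadraticMap.map_zero, zero_add, add_zero]
    show plusForm (k + 1) F (Pi.single (Sum.inl 0) 1) = 0
    rw [coe_plusForm, quadFormPlus_apply]
    simp
  refine ⟨⟨M, hmem⟩, e.symm e₀, ?_, ?_, ?_, ?_⟩
  · have : Fact r.Prime := ⟨hr⟩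
    apply orderOf_eq_prime
    · apply Subtype.ext
      apply Units.ext
      exact hφr
    · intro h
      have h1 : φ T = 1 := congrArg (fun x : isometryGroup F ⇑(oddForm (i + (k + 1)) F) =>
        (x : Matrix.GeneralLinearGroup (Unit ⊕ (Fin (i + (k + 1)) ⊕ Fin (i + (k + 1)))) F).val) h
      have h3 : T = 1 := φ.injective (by rw [h1, map_one])
      have h4 : (g₁.prodMap (1 : Module.End F (Fin (k + 1) ⊕ Fin (k + 1) → F))) = 1 := ((prodMap_eq_one_iff _ _).1 h3).1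
      have h5 := ((prodMap_eq_one_iff _ _).1 h4).1
      rw [h5, orderOf_one] at ho
      exact hr.one_lt.ne ho
  · intro h
    have h1 : e₀ = 0 := by
      have := congrArg e h
      rwa [e.apply_symm_apply, map_zero] at this
    have h3 : (Pi.single (Sum.inl 0) 1 : Fin (k + 1) ⊕ Fin (k + 1) → F) = 0 := congrArg (fun x => x.1.2) h1
    have h4 := congrFun h3 (Sum.inl 0)
    rw [Pi.single_eq_same, Pi.zero_apply] at h4
    exact one_ne_zero h4
  · apply mul_left_cancel₀ hc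
    rw [← he, e.apply_symm_apply, he₀, mul_zero]
  · show (φ T) *ᵥ (e.symm e₀) = e.symm e₀
    rw [hφ, e.apply_symm_apply]
    congr 1
    show ((g₁ 0, Pi.single (Sum.inl 0) 1), (0 : F)) = ((0, Pi.single (Sum.inl 0) 1), 0)
    rw [map_zero]

end

end Cfsg.Agent.H424.Six
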