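import Cfsg.Agent.H424.Six.Frob
import Cfsg.Agent.H377.ToOmega
import Cfsg.Agent.LieClassical.OmegaCenter
import Cfsg.Agent.H390.Lift

/-!
# Orthogonal groups: elements of prime order acting nontrivially on the radical of a parabolic subgroup (helper424)

`orth_frob` : an isometry of odd prime order `r ≠ p` fixing a singular vector gives an element of order `r` of `POmega`
normalising and not centralising a `p`-subgroup.
-/

set_option autoImplicit false
set_option linter.unusedSectionVars false

namespace Cfsg.Agent.H424.Six.Orth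

open QuadraticMap Cfsg Matrix
open Cfsg.Agent.LieClassical.OrthCore Cfsg.Agent.LieClassical.OrthForms
open Cfsg.Agent.H377 Cfsg.Agent.LieClassical Cfsg.Agent.H424.Six

section

variable {F : Type*} [Field F] [Finite F] {ι : Type} [Fintype ι] [DecidableEq ι] (Q : QuadraticForm F (ι → F))

/-- the matrices of the elements of `Omega` -/
noncomputable def rho : Omega F ⇑Q →* Matrix ι ι F :=
  (Units.coeHom (Matrix ι ι F)).comp ((isometryGroup F ⇑Q).subtype.comp (Omega F ⇑Q).subtype)

theorem rho_apply (g : Omega F ⇑Q) : rho Q g = ((g : isometryGroup F ⇑Q) : Matrix.GeneralLinearGroup ι F) := rfl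

theorem rho_injective : Function.Injective (rho Q) := fun _ _ h => Subtype.ext (Subtype.ext (Units.ext h))

theorem orth_frob (hQ : Nondeg Q) (h5 : 5 ≤ Fintype.card ι) (h2 : (2 : F) ≠ 0) (p : ℕ) [hp : Fact p.Prime]
    [CharP F p] {r : ℕ} (hr : r.Prime) (hr2 : r ≠ 2) (hrp : r ≠ p) (g : isometryGroup F ⇑Q) (hg : orderOf g = r)
    {e : ι → F} (he : e ≠ 0) (hQe : Q e = 0)
    (hge : ((g : Matrix.GeneralLinearGroup ι F) : Matrix ι ι F) *ᵥ e = e) :
    ∃ U : Subgroup (POmega F ⇑Q), IsPGroup p U ∧ ∃ y : POmega F ⇑Q, orderOf y = r ∧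
      (∀ x ∈ U, y * x * y⁻¹ ∈ U) ∧ ∃ x ∈ U, y * x ≠ x * y := by
  classical
  have hnd := nondegenerate_of_nondeg hQ
  let y : Omega F ⇑Q := ⟨g * g, mul_self_mem_Omega Q hQ h5 g⟩
  have hy : orderOf y = r := by
    rw [← Subgroup.orderOf_coe]
    show orderOf (g * g) = r
    rw [← pow_two, Nat.Coprime.orderOf_pow, hg]
    rw [hg]
    exact (Nat.coprime_primes hr Nat.prime_two).2 hr2
  have hye : rho Q y *ᵥ e = e := by
    show (((g : Matrix.GeneralLinearGroup ι F) : Matrix ι ι F) *
      ((g : Matrix.GeneralLinearGroup ι F) : Matrix ι ι F)) *ᵥ e = e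
    rw [← mulVec_mulVec, hge, hge]
  have hpol : ∀ x, polar (⇑Q) x x = 2 * Q x := fun x => by
    rw [QuadraticMap.polar_self, nsmul_eq_mul, Nat.cast_ofNat]
  refine frob_abs (G := Omega F ⇑Q) (ρ := rho Q) (β := fun x z => polar (⇑Q) x z) (e := e) p (rho_injective Q)
    (fun x y z => by simp only [sub_eq_add_neg, QuadraticMap.polar_add_right, QuadraticMap.polar_neg_right])
    (fun x c y => by simp only [QuadraticMap.polar_smul_right, smul_eq_mul])
    (fun x y z => by simp only [sub_eq_add_neg, QuadraticMap.polar_add_left, QuadraticMap.polar_neg_left])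
    (fun x c y => by simp only [QuadraticMap.polar_smul_left, smul_eq_mul])
    (fun a v w => OmegaCenter.polar_act Q a v w)
    (fun x hx => by
      by_contra hcon
      push Not at hcon
      exact hx (hQ x hcon))
    (fun z hz => ?_) he (fun w hw => ?_) hr hrp hy hye
  · rcases (OmegaCenter.mem_center_omega_iff Q hnd (by omega) ⟨e, he, hQe⟩ z).1 hz with h | h
    · exact ⟨1, by rw [one_smul]; exact h⟩
    · exact ⟨-1, by rw [neg_one_smul]; exact h⟩
  · -- the Siegel transformation
    have hw' : polar (⇑Q) e ((2 : F)⁻¹ • (-w)) = 0 := by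
      rw [QuadraticMap.polar_smul_right, QuadraticMap.polar_neg_right, hw, neg_zero, smul_zero]
    let a := OmegaCenter.eichler Q e ((2 : F)⁻¹ • (-w)) hQe hw'
    refine ⟨⟨a * a, mul_self_mem_Omega Q hQ h5 a⟩, ?_, fun v hv => ?_⟩
    all_goals
      have h1 : (2 : F)⁻¹ • (-w) + (2 : F)⁻¹ • (-w) = -w := by
        rw [← two_smul F, smul_smul, mul_inv_cancel₀ h2, one_smul]
      have h3 : rho Q ⟨a * a, mul_self_mem_Omega Q hQ h5 a⟩ = OmegaCenter.eichlerMatrix Q e (-w) := by
        show ((a * a : isometryGroup F ⇑Q) : Matrix.GeneralLinearGroup ι F).val = _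
        rw [OmegaCenter.eichler_mul Q hQe hw' hw', OmegaCenter.coe_eichler, h1]
      rw [h3, OmegaCenter.eichlerMatrix_mulVec]
    · rw [hpol, hQe, QuadraticMap.polar_neg_left, QuadraticMap.polar_comm, hw]
      simp
    · rw [hv, QuadraticMap.polar_neg_left, QuadraticMap.polar_comm (⇑Q) w v]
      simp

end

end Cfsg.Agent.H424.Six.Orth
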