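import Cfsg.Agent.H424.Six.Kill
import Cfsg.Agent.H424.Six.Frob
import Cfsg.Agent.H424.P4Sp
import Cfsg.Agent.LieClassical.SympTransvection
import Cfsg.Agent.H934.OutB
import Cfsg.Agent.S0270
import Cfsg.Agent.S0814

/-!
# Elimination of sections `PSp_{2n}(u)`, `q = 5 ^ m` (helper424)
-/

set_option autoImplicit false

namespace Cfsg.Agent.H424.Six.Sp

open Cfsg.Agent.H376.Six Cfsg.Agent.H376.SpEmb Cfsg.Agent.LieClassical.SympTransvection Cfsg.Agent.H403
  Cfsg.Agent.H424.P4 Matrix Cfsg.Agent.H424.Six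

section

variable {F : Type*} [Field F]

theorem om_inv {l : Type*} [Fintype l] [DecidableEq l] (A : symplecticGroup l F) (v w : l ⊕ l → F) :
    om ((A : Matrix (l ⊕ l) (l ⊕ l) F) *ᵥ v) ((A : Matrix (l ⊕ l) (l ⊕ l) F) *ᵥ w) = om v w := by
  have h : (A : Matrix (l ⊕ l) (l ⊕ l) F)ᵀ * J l F * (A : Matrix (l ⊕ l) (l ⊕ l) F) = J l F :=
    SymplecticGroup.mem_iff'.1 A.2
  rw [om_def, om_def, mulVec_mulVec, ← vecMul_transpose, ← dotProduct_mulVec, mulVec_mulVec, ← mul_assoc, h]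

/-- an element fixing a vector -/
theorem exists_fix {n i : ℕ} (hi : i < n) (A : symplecticGroup (Fin i) F) :
    ∃ (C : symplecticGroup (Fin n) F) (e : Fin n ⊕ Fin n → F), e ≠ 0 ∧ orderOf C = orderOf A ∧
      (C : Matrix (Fin n ⊕ Fin n) (Fin n ⊕ Fin n) F) *ᵥ e = e := by
  obtain ⟨c, rfl⟩ : ∃ c, n = i + (c + 1) := ⟨n - i - 1, by omega⟩
  let f : Fin i ⊕ Fin (c + 1) ≃ Fin (i + (c + 1)) := finSumFinEquiv
  let j : (Fin i ⊕ Fin (c + 1)) ⊕ (Fin i ⊕ Fin (c + 1)) := Sum.inl (Sum.inr 0)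
  refine ⟨reidx f (blk _ _ (A, 1)), (Pi.single j (1 : F)) ∘ (Equiv.sumCongr f f).symm, ?_, ?_, ?_⟩
  · intro h
    have h1 := congrFun h (Equiv.sumCongr f f j)
    rw [Function.comp_apply, Equiv.symm_apply_apply, Pi.single_eq_same, Pi.zero_apply] at h1
    exact one_ne_zero h1
  · rw [orderOf_injective _ (reidx_injective _), orderOf_injective _ (blk_injective _ _)]
    rw [Prod.orderOf_mk, orderOf_one, Nat.lcm_one_right]
  · show (blkM A.1 1).submatrix (Equiv.sumCongr f f).symm (Equiv.sumCongr f f).symm *ᵥ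
      ((Pi.single j (1 : F)) ∘ (Equiv.sumCongr f f).symm) = _
    rw [Matrix.submatrix_mulVec_equiv, Function.comp_assoc]
    have h1 : ((Equiv.sumCongr f f).symm : _ → _) ∘ ((Equiv.sumCongr f f).symm.symm : _ → _) = id := by
      funext x
      simp
    rw [h1, Function.comp_id]
    congr 1
    rw [Matrix.mulVec_single_one]
    funext x
    simp only [Matrix.col_apply, blkM]
    rcases x with (x | x) | (x | x)
    · simp [j]
    · simp only [j, Matrix.fromBlocks_apply₁₁, Matrix.fromBlocks_apply₂₂, Matrix.toBlocks₁₁, Matrix.of_apply,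
        Matrix.one_apply, Pi.single_apply]
      simp [Sum.inl.injEq, Sum.inr.injEq]
    · simp [j]
    · simp [j, Matrix.toBlocks₂₁]

/-- the Siegel transformations -/
theorem exists_siegel {l : Type*} [Fintype l] [DecidableEq l] (e w : l ⊕ l → F) (h : om e w = 0) :
    ∃ g : symplecticGroup l F, (g : Matrix (l ⊕ l) (l ⊕ l) F) *ᵥ e = e ∧
      ∀ v, om e v = 0 → (g : Matrix (l ⊕ l) (l ⊕ l) F) *ᵥ v = v + om v w • e := by
  refine ⟨tvS 1 (e + w) * tvS (-1) w, ?_, fun v hv => ?_⟩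
  · show (tv 1 (e + w) * tv (-1) w) *ᵥ e = e
    have h0 : tv (-1) w *ᵥ e = e := by rw [tv_mulVec, h, mul_zero, zero_smul, add_zero]
    rw [← mulVec_mulVec, h0, tv_mulVec, om_add_right, om_self, h, add_zero, mul_zero, zero_smul, add_zero]
  · show (tv 1 (e + w) * tv (-1) w) *ᵥ v = v + om v w • e
    have hve : om v e = 0 := by rw [om_swap, hv, neg_zero]
    have hwe : om w e = 0 := by rw [om_swap, h, neg_zero]
    rw [← mulVec_mulVec, tv_mulVec, tv_mulVec]
    simp only [om_add_left, om_add_right, om_smul_left, hve, hwe, om_self, mul_zero, add_zero, zero_add, one_mul]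
    funext i
    simp only [Pi.add_apply, Pi.smul_apply, smul_eq_mul]
    ring

theorem psp_frob {n : ℕ} (p : ℕ) [hp : Fact p.Prime] [CharP F p] {r : ℕ} (hr : r.Prime) (hrp : r ≠ p)
    {i : ℕ} (hi : i < n) (A : symplecticGroup (Fin i) F) (hA : orderOf A = r) :
    ∃ U : Subgroup (Cfsg.PSp n F), IsPGroup p U ∧ ∃ y : Cfsg.PSp n F, orderOf y = r ∧
      (∀ x ∈ U, y * x * y⁻¹ ∈ U) ∧ ∃ x ∈ U, y * x ≠ x * y := by
  obtain ⟨C, e, he, hC, hCe⟩ := exists_fix hi A
  refine frob_abs (G := symplecticGroup (Fin n) F) (ρ := (symplecticGroup (Fin n) F).subtype) (β := om) (e := e) p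
    Subtype.val_injective om_sub_right (fun x c y => om_smul_right c x y) om_sub_left
    (fun x c y => om_smul_left c x y) (fun g v w => om_inv g v w)
    (fun x hx => exists_om_ne_zero hx) (fun z hz => ?_) he (fun w hw => exists_siegel e w hw) hr hrp
    (hC.trans hA) hCe
  rcases Cfsg.Agent.ClassicalGeometry.SympInvolutions.center_eq hz with h | h
  · exact ⟨1, by rw [one_smul]; exact h⟩
  · exact ⟨-1, by rw [neg_one_smul]; exact h⟩

end

end Cfsg.Agent.H424.Six.Sp
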