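import Cfsg.Agent.H403.LinEv
import Cfsg.Agent.H403.TLSmall

/-!
# Orders prime to the characteristic of matrices similar to their inverses (helper424)

* `exists_TL_of_inv` : `M` similar to `M⁻¹`, of size at most `2 n + 1`, of odd order prime to the characteristic: the
  order divides a least common multiple of numbers `q ^ k ± 1` with the sum of the `k` at most `n` (`TL q n L`);
* `tl_prime_pow` : a prime power dividing `L` divides one of the numbers `q ^ k ± 1`, `k ≤ n`;
* `tl_full` : if a prime dividing `L` does not divide `q ^ (2 i) - 1` for `1 ≤ i < n`, then `L` divides `q ^ n ± 1`.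
-/

set_option autoImplicit false
set_option linter.unusedSectionVars false

namespace Cfsg.Agent.H424.Six

open Cfsg.Agent.H403 Function

/-- a finite set with a fixed point free involution has even cardinality -/
theorem even_of_inv {E : Type*} [Field E] (S : Finset E) (h1 : ∀ x ∈ S, x⁻¹ ∈ S) (h2 : ∀ x ∈ S, x⁻¹ ≠ x) :
    Even S.card := by
  have h : ∑ _x ∈ S, (1 : ZMod 2) = 0 :=
    Finset.sum_involution (fun x _ => x⁻¹) (fun _ _ => by decide) (fun x hx _ => h2 x hx) (fun x hx => h1 x hx)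
      (fun x _ => inv_inv x)
  rw [Finset.sum_const, nsmul_eq_mul, mul_one, ZMod.natCast_eq_zero_iff] at h
  exact even_iff_two_dvd.2 h

section

variable {F : Type*} [Field F] [Fintype F] {ι : Type*} [Fintype ι] [DecidableEq ι]

theorem exists_TL_of_inv (M : Matrix ι ι F) (hM : IsUnit M) (hinv : M⁻¹.charpoly = M.charpoly) {n : ℕ}
    (hn : Fintype.card ι ≤ 2 * n + 1) {N : ℕ} (hMN : M ^ N = 1) (hodd : Odd N) (hN : (N : F) ≠ 0) :
    ∃ L, TL (Fintype.card F) n L ∧ M ^ L = 1 := by
  classical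
  rcases isEmpty_or_nonempty ι with hι | hι
  · exact ⟨1, TL.one n, by rw [pow_one]; exact Subsingleton.elim _ _⟩
  let E := AlgebraicClosure F
  obtain ⟨p, hp⟩ := CharP.exists F
  have hpp : Fact p.Prime := ⟨CharP.char_is_prime F p⟩
  have hE : CharP E p := charP_of_injective_algebraMap (algebraMap F E).injective p
  obtain ⟨k, -, hk⟩ := FiniteField.card F p
  have hinj : Injective fun x : E => x ^ Fintype.card F := by
    intro x y hxy
    dsimp only at hxy
    rw [hk, ← iterateFrobenius_def, ← iterateFrobenius_def] at hxy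
    exact (iterateFrobenius_inj E p k) hxy
  set R : Multiset E := evs E M with hR
  have h0 : (0 : E) ∉ R := zero_notMem_evs E M hM
  have hinvR : R.map (·⁻¹) = R := by
    rw [hR, ← evs_inv E M hM, evs, hinv, evs]
  have hfr := evs_frob E M
  have hpow : ∀ y ∈ R, y ^ N = 1 := by
    intro y hy
    have := pow_of_mem_evs (E := E) (M := M) (k := N) (c := 1) (by rw [hMN, one_smul]) hy
    rwa [map_one] at this
  have hsq : ∀ y ∈ R, y ^ 2 = 1 → y = 1 := by
    intro y hy h2
    obtain ⟨m, hm⟩ := hodd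
    have h3 := hpow y hy
    rw [hm, pow_succ, pow_mul, h2, one_pow, one_mul] at h3
    exact h3
  set S := R.toFinset.erase 1 with hS
  have hS1 : ∀ x ∈ S, x ∈ R ∧ x ≠ 1 := fun x hx =>
    ⟨Multiset.mem_toFinset.1 (Finset.mem_of_mem_erase hx), (Finset.mem_erase.1 hx).1⟩
  have hSinv : ∀ x ∈ S, x⁻¹ ∈ S := by
    intro x hx
    obtain ⟨h1, h2⟩ := hS1 x hx
    rw [hS, Finset.mem_erase, Multiset.mem_toFinset]
    refine ⟨fun h => h2 ?_, ?_⟩
    · rw [← inv_inv x, h, inv_one]
    · rw [← hinvR]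
      exact Multiset.mem_map_of_mem _ h1
  have hSne : ∀ x ∈ S, x⁻¹ ≠ x := by
    intro x hx h
    obtain ⟨h1, h2⟩ := hS1 x hx
    apply h2
    apply hsq x h1
    have hx0 : x ≠ 0 := by
      rintro rfl
      exact h0 h1
    rw [pow_two]
    nth_rewrite 1 [← h]
    exact inv_mul_cancel₀ hx0
  have hScard : S.card ≤ 2 * n := by
    have h1 : S.card ≤ Fintype.card ι := by
      rw [← card_evs E M]
      exact (Finset.card_le_card (Finset.erase_subset _ _)).trans (Multiset.toFinset_card_le R)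
    obtain ⟨m, hm⟩ := even_of_inv S hSinv hSne
    omega
  obtain ⟨L, hL1, hL2⟩ := exists_TL (Fintype.card F) hinj n S
    (fun x hx => by
      rintro rfl
      exact h0 (hS1 0 hx).1)
    (fun x hx h => (hS1 x hx).2 (hsq x (hS1 x hx).1 h))
    (fun x hx => by
      obtain ⟨h1, h2⟩ := hS1 x hx
      rw [hS, Finset.mem_erase, Multiset.mem_toFinset]
      refine ⟨fun h => h2 ?_, ?_⟩
      · apply hinj
        dsimp only
        rw [h, one_pow]
      · rw [hR, ← hfr]
        exact Multiset.mem_map_of_mem _ h1)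
    hSinv hScard
  refine ⟨L, hL1, ?_⟩
  have h3 := pow_eq_smul_of_coprime (E := E) (M := M) (k := L) (m := N) (c := 1) (ζ := 1) one_ne_zero hN
    (by rw [mul_comm, pow_mul, hMN, one_pow, one_smul]) (by
      intro y hy
      rw [map_one]
      by_cases hy1 : y = 1
      · rw [hy1, one_pow]
      · exact hL2 y (by rw [hS, Finset.mem_erase, Multiset.mem_toFinset]; exact ⟨hy1, hy⟩))
  rwa [one_smul] at h3

end

theorem tl_prime_pow {q n L : ℕ} (h : TL q n L) {r a : ℕ} (hr : r.Prime) (ha : a ≠ 0) (hd : r ^ a ∣ L) :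
    ∃ k, 1 ≤ k ∧ k ≤ n ∧ (r ^ a ∣ q ^ k - 1 ∨ r ^ a ∣ q ^ k + 1) := by
  have key : ∀ x y : ℕ, r ^ a ∣ Nat.lcm x y → r ^ a ∣ x ∨ r ^ a ∣ y := by
    intro x y hxy
    rcases Nat.eq_zero_or_pos x with rfl | hx
    · exact Or.inl (dvd_zero _)
    rcases Nat.eq_zero_or_pos y with rfl | hy
    · exact Or.inr (dvd_zero _)
    rw [hr.pow_dvd_iff_le_factorization (Nat.lcm_ne_zero hx.ne' hy.ne'), Nat.factorization_lcm hx.ne' hy.ne',
      Finsupp.sup_apply, le_sup_iff] at hxy
    rw [hr.pow_dvd_iff_le_factorization hx.ne', hr.pow_dvd_iff_le_factorization hy.ne']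
    exact hxy
  induction h with
  | one n =>
    exfalso
    have h1 := (Nat.pow_eq_one.1 (Nat.dvd_one.1 hd))
    rcases h1 with h1 | h1
    · exact hr.one_lt.ne' h1
    · exact ha h1
  | @pos n L k hk _ ih =>
    rcases key _ _ hd with h1 | h1
    · exact ⟨k, hk, by omega, Or.inl h1⟩
    · obtain ⟨j, h2, h3, h4⟩ := ih h1
      exact ⟨j, h2, by omega, h4⟩
  | @neg n L k hk _ ih =>
    rcases key _ _ hd with h1 | h1
    · exact ⟨k, hk, by omega, Or.inr h1⟩
    · obtain ⟨j, h2, h3, h4⟩ := ih h1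
      exact ⟨j, h2, by omega, h4⟩

theorem pow_sub_dvd_two (q k : ℕ) : q ^ k - 1 ∣ q ^ (2 * k) - 1 ∧ q ^ k + 1 ∣ q ^ (2 * k) - 1 := by
  have h := Nat.sq_sub_sq (q ^ k) 1
  rw [one_pow, ← pow_mul, mul_comm k 2] at h
  rw [h]
  exact ⟨dvd_mul_left _ _, dvd_mul_right _ _⟩

theorem tl_full {q n L : ℕ} (h : TL q n L) {r : ℕ} (hr : r.Prime) (hd : r ∣ L)
    (hi : ∀ i, 1 ≤ i → i < n → ¬ r ∣ q ^ (2 * i) - 1) : L = q ^ n - 1 ∨ L = q ^ n + 1 := by
  induction h with
  | one n => exact absurd (Nat.dvd_one.1 hd) hr.one_lt.ne'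
  | @pos n L k hk h ih =>
    rcases Nat.eq_zero_or_pos n with rfl | hn
    · left
      rw [h.zero, Nat.lcm_one_right, Nat.zero_add]
    · exfalso
      rcases hr.dvd_mul.1 (hd.trans (Nat.lcm_dvd_mul _ _)) with h1 | h1
      · exact hi k hk (by omega) (h1.trans (pow_sub_dvd_two q k).1)
      · obtain ⟨j, h2, h3, h4⟩ := tl_prime_pow h hr one_ne_zero (by rwa [pow_one])
        rw [pow_one] at h4
        rcases h4 with h4 | h4
        · exact hi j h2 (by omega) (h4.trans (pow_sub_dvd_two q j).1)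
        · exact hi j h2 (by omega) (h4.trans (pow_sub_dvd_two q j).2)
  | @neg n L k hk h ih =>
    rcases Nat.eq_zero_or_pos n with rfl | hn
    · right
      rw [h.zero, Nat.lcm_one_right, Nat.zero_add]
    · exfalso
      rcases hr.dvd_mul.1 (hd.trans (Nat.lcm_dvd_mul _ _)) with h1 | h1
      · exact hi k hk (by omega) (h1.trans (pow_sub_dvd_two q k).2)
      · obtain ⟨j, h2, h3, h4⟩ := tl_prime_pow h hr one_ne_zero (by rwa [pow_one])
        rw [pow_one] at h4
        rcases h4 with h4 | h4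
        · exact hi j h2 (by omega) (h4.trans (pow_sub_dvd_two q j).1)
        · exact hi j h2 (by omega) (h4.trans (pow_sub_dvd_two q j).2)

end Cfsg.Agent.H424.Six
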